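import Cfsg.Agent.Lib.InvChar.SimpleInvol
import Cfsg.Agent.Lib.Transfer.Thompson
import Mathlib.GroupTheory.Sylow

/-!
An involution whose centraliser is a 2-group of order 64 of the shape of a Sylow 2-subgroup of the
three-dimensional special linear group over four elements: two elementary abelian subgroups of
order 16 meeting in the centre.
-/

set_option autoImplicit false

namespace CfsgLib.InvChar.LThreeFour

open Subgroup

universe u

variable {G : Type u} [Group G]

/-- The centraliser `T` of the involution `z` with its two subgroups of order 16. -/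
structure Flag (z : G) (T A B V : Subgroup G) : Prop where
  hz : orderOf z = 2
  hT : centralizer ({z} : Set G) = T
  odd_index : ¬ 2 ∣ T.index
  cardT : Nat.card T = 64
  hA : A ≤ T
  hB : B ≤ T
  eA : ∀ a ∈ A, a * a = 1
  eB : ∀ b ∈ B, b * b = 1
  cardA : Nat.card A = 16
  cardB : Nat.card B = 16
  inter : A ⊓ B = V
  cardV : Nat.card V = 4
  nA : ∀ t ∈ T, ∀ a ∈ A, t * a * t⁻¹ ∈ A
  nB : ∀ t ∈ T, ∀ b ∈ B, t * b * t⁻¹ ∈ B
  selfA : ∀ a ∈ A, a ∉ V → ∀ t ∈ T, t * a = a * t → t ∈ A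
  selfB : ∀ b ∈ B, b ∉ V → ∀ t ∈ T, t * b = b * t → t ∈ B
  zV : z ∈ V

theorem comm_of_sq {E : Subgroup G} (h : ∀ a ∈ E, a * a = 1) {a b : G} (ha : a ∈ E) (hb : b ∈ E) :
    a * b = b * a := by
  have h1 : a * b = (a * b)⁻¹ := eq_inv_of_mul_eq_one_left (h _ (mul_mem ha hb))
  rw [h1, mul_inv_rev, inv_eq_of_mul_eq_one_right (h a ha), inv_eq_of_mul_eq_one_right (h b hb)]

/-- Membership in an image under conjugation. -/
theorem mem_map_conj {H : Subgroup G} {g x : G} :
    x ∈ H.map (MulAut.conj g).toMonoidHom ↔ g⁻¹ * x * g ∈ H := by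
  constructor
  · rintro ⟨y, hy, rfl⟩
    simpa [mul_assoc] using hy
  · exact fun h => ⟨g⁻¹ * x * g, h, by simp [mul_assoc]⟩

theorem card_map_conj (H : Subgroup G) (g : G) :
    Nat.card (H.map (MulAut.conj g).toMonoidHom) = Nat.card H :=
  Subgroup.card_map_of_injective (MulAut.conj g).injective

/-- `g` normalises a finite subgroup as soon as it maps it into itself. -/
theorem mem_normalizer_of_map_eq {H : Subgroup G} {g : G}
    (h : H.map (MulAut.conj g).toMonoidHom = H) : g ∈ normalizer (H : Set G) := by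
  refine mem_normalizer_iff.2 fun x => ⟨fun hx => ?_, fun hx => ?_⟩
  · rw [← h, mem_map_conj]
    simpa [mul_assoc] using hx
  · rw [← h, mem_map_conj] at hx
    simpa [mul_assoc] using hx

theorem map_eq_of_mem_normalizer {H : Subgroup G} {g : G} (h : g ∈ normalizer (H : Set G)) :
    H.map (MulAut.conj g).toMonoidHom = H := by
  ext x
  rw [mem_map_conj]
  have := mem_normalizer_iff.1 (inv_mem h) x
  simpa [mul_assoc] using this.symm

namespace Flag

variable {z : G} {T A B V : Subgroup G}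

theorem symm (F : Flag z T A B V) : Flag z T B A V :=
  ⟨F.hz, F.hT, F.odd_index, F.cardT, F.hB, F.hA, F.eB, F.eA, F.cardB, F.cardA,
    (inf_comm B A).trans F.inter, F.cardV, F.nB, F.nA, F.selfB, F.selfA, F.zV⟩

variable (F : Flag z T A B V)
include F

theorem hVA : V ≤ A := F.inter ▸ inf_le_left

theorem hVB : V ≤ B := F.inter ▸ inf_le_right

theorem hVT : V ≤ T := F.hVA.trans F.hA

theorem mem_V {x : G} (ha : x ∈ A) (hb : x ∈ B) : x ∈ V := F.inter ▸ mem_inf.2 ⟨ha, hb⟩

theorem z_sq : z * z = 1 := F.eA z (F.hVA F.zV)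

theorem z_ne : z ≠ 1 := fun h => by simpa [h] using F.hz

theorem mem_T {x : G} : x ∈ T ↔ x * z = z * x := by
  rw [← F.hT, mem_centralizer_singleton_iff]

theorem exists_mul [Finite G] {t : G} (ht : t ∈ T) : ∃ a ∈ A, ∃ b ∈ B, t = a * b := by
  classical
  let f : ↥A × ↥B → ↥T := fun p => ⟨(p.1 : G) * p.2, mul_mem (F.hA p.1.2) (F.hB p.2.2)⟩
  let r : ↥T → ↥A := fun x => if h : ∃ p, f p = x then h.choose.1 else 1
  have hr : ∀ p : ↥A × ↥B, ∃ b : ↥B, f (r (f p), b) = f p := fun p => by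
    have h : ∃ q, f q = f p := ⟨p, rfl⟩
    refine ⟨h.choose.2, ?_⟩
    have hrp : r (f p) = h.choose.1 := dif_pos h
    rw [hrp]
    exact h.choose_spec
  have hmem : ∀ p : ↥A × ↥B, (r (f p) : G)⁻¹ * p.1 ∈ V := by
    intro p
    obtain ⟨b, hb⟩ := hr p
    have h' : (r (f p) : G) * b = (p.1 : G) * p.2 := congrArg Subtype.val hb
    refine F.mem_V (mul_mem (inv_mem (r (f p)).2) p.1.2) ?_
    rw [show (r (f p) : G)⁻¹ * p.1 = (b : G) * (p.2 : G)⁻¹ by
      calc (r (f p) : G)⁻¹ * p.1 = (r (f p) : G)⁻¹ * ((p.1 : G) * p.2) * (p.2 : G)⁻¹ := by group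
        _ = (b : G) * (p.2 : G)⁻¹ := by rw [← h']; group]
    exact mul_mem b.2 (inv_mem p.2.2)
  let g : ↥A × ↥B → Set.range f × ↥V := fun p => (⟨f p, p, rfl⟩, ⟨_, hmem p⟩)
  have hg : Function.Injective g := by
    intro p q h
    have h1 : f p = f q := congrArg (fun u => (u.1 : ↥T)) h
    have h2 : (r (f p) : G)⁻¹ * p.1 = (r (f q) : G)⁻¹ * q.1 := congrArg (fun u => (u.2 : G)) h
    rw [h1] at h2
    have h3 : (p.1 : G) = q.1 := mul_left_cancel h2
    have h4 : (p.1 : G) * p.2 = (q.1 : G) * q.2 := congrArg Subtype.val h1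
    rw [h3] at h4
    exact Prod.ext (Subtype.ext h3) (Subtype.ext (mul_left_cancel h4))
  have hle := Nat.card_le_card_of_injective g hg
  rw [Nat.card_prod, Nat.card_prod, F.cardA, F.cardB, F.cardV] at hle
  have hle2 : Nat.card (Set.range f) ≤ Nat.card ↥T :=
    Nat.card_le_card_of_injective _ Subtype.val_injective
  have hall : Set.range f = Set.univ := by
    refine Set.eq_of_subset_of_ncard_le (Set.subset_univ _) ?_
    rw [Set.ncard_univ, ← Nat.card_coe_set_eq, F.cardT]
    rw [F.cardT] at hle2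
    omega
  obtain ⟨⟨a, b⟩, hab⟩ : (⟨t, ht⟩ : ↥T) ∈ Set.range f := hall ▸ Set.mem_univ _
  exact ⟨a, a.2, b, b.2, (congrArg Subtype.val hab).symm⟩

/-- The involutions of `T` lie in `A` or `B`. -/
theorem invol_cases [Finite G] {t : G} (ht : t ∈ T) (h2 : t * t = 1) : t ∈ A ∨ t ∈ B := by
  obtain ⟨a, ha, b, hb, rfl⟩ := F.exists_mul ht
  by_cases hbV : b ∈ V
  · exact Or.inl (mul_mem ha (F.hVA hbV))
  · refine Or.inr (mul_mem ?_ hb)
    refine F.selfB b hb hbV a (F.hA ha) ?_
    calc a * b = a * b * (a * b) * (b⁻¹ * a⁻¹) := by group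
      _ = b * a := by
        rw [h2, one_mul, inv_eq_of_mul_eq_one_right (F.eA a ha),
          inv_eq_of_mul_eq_one_right (F.eB b hb)]

theorem comm_V [Finite G] {v t : G} (hv : v ∈ V) (ht : t ∈ T) : t * v = v * t := by
  obtain ⟨a, ha, b, hb, rfl⟩ := F.exists_mul ht
  rw [mul_assoc, comm_of_sq F.eB hb (F.hVB hv), ← mul_assoc, comm_of_sq F.eA ha (F.hVA hv),
    mul_assoc]

/-- The elementary abelian subgroups of order 16 of `T` are `A` and `B`. -/
theorem eq_or_eq [Finite G] {E : Subgroup G} (hE : E ≤ T) (h2 : ∀ e ∈ E, e * e = 1)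
    (hc : Nat.card E = 16) : E = A ∨ E = B := by
  by_cases h : E ≤ A
  · exact Or.inl (Subgroup.eq_of_le_of_card_ge h (by rw [hc, F.cardA]))
  · refine Or.inr (Subgroup.eq_of_le_of_card_ge (fun e he => ?_) (by rw [hc, F.cardB]))
    obtain ⟨x, hx, hxA⟩ := SetLike.not_le_iff_exists.1 h
    rcases F.invol_cases (hE he) (h2 e he) with heA | heB
    · by_cases heV : e ∈ V
      · exact F.hVB heV
      · exact absurd (F.selfA e heA heV x (hE hx) (comm_of_sq h2 hx he)) hxA
    · exact heB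

theorem A_ne_B : A ≠ B := fun h => by
  have h1 := F.inter
  rw [h, inf_idem] at h1
  have := F.cardB
  rw [h1, F.cardV] at this
  norm_num at this

theorem exists_A_not_V [Finite G] : ∃ a ∈ A, a ∉ V :=
  SetLike.exists_of_lt (lt_of_le_of_ne F.hVA fun h => by
    have := F.cardA
    rw [← h, F.cardV] at this
    norm_num at this)

theorem cent_V [Finite G] {g : G} (hg : ∀ v ∈ V, g * v = v * g) : g ∈ T := F.mem_T.2 (hg z F.zV)

/-- Conjugation by `T` moves an element of `A` outside `V` over its coset of `V`. -/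
theorem commutator_mem [Finite G] {a b : G} (ha : a ∈ A) (hb : b ∈ B) :
    a⁻¹ * (b * a * b⁻¹) ∈ V := by
  refine F.mem_V (mul_mem (inv_mem ha) (F.nA b (F.hB hb) a ha)) ?_
  rw [show a⁻¹ * (b * a * b⁻¹) = (a⁻¹ * b * a⁻¹⁻¹) * b⁻¹ by group]
  exact mul_mem (F.nB _ (inv_mem (F.hA ha)) b hb) (inv_mem hb)

theorem isPGroup [Finite G] : IsPGroup 2 T := IsPGroup.of_card (n := 6) (by rw [F.cardT]; rfl)

/-- `T` as a Sylow 2-subgroup. -/
theorem exists_sylow [Finite G] : ∃ P : Sylow 2 G, (P : Subgroup G) = T := by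
  haveI : Fact (Nat.Prime 2) := ⟨Nat.prime_two⟩
  obtain ⟨P, hP⟩ := F.isPGroup.exists_le_sylow
  refine ⟨P, le_antisymm ?_ hP⟩
  obtain ⟨n, hn⟩ := P.isPGroup'.exists_card_eq
  have h1 := T.card_mul_index
  have h2 := Subgroup.card_subgroup_dvd_card (P : Subgroup G)
  rw [hn, ← h1, F.cardT] at h2
  refine (Subgroup.eq_of_le_of_card_ge hP ?_).ge
  rw [hn, F.cardT]
  have hc : Nat.Coprime (2 ^ n) T.index :=
    Nat.Coprime.pow_left _ ((Nat.Prime.coprime_iff_not_dvd Nat.prime_two).2 F.odd_index)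
  exact Nat.le_of_dvd (by norm_num) (hc.dvd_of_dvd_mul_right h2)

/-- A 2-element normalising `T` lies in it. -/
theorem mem_T_of_two [Finite G] {r : G} (hr : r ∈ normalizer (T : Set G))
    (h2 : ∃ k : ℕ, orderOf r = 2 ^ k) : r ∈ T := by
  haveI : Fact (Nat.Prime 2) := ⟨Nat.prime_two⟩
  obtain ⟨P, hP⟩ := F.exists_sylow
  obtain ⟨k, hk⟩ := h2
  have hp : IsPGroup 2 (zpowers r) := IsPGroup.of_card (n := k) (by rw [Nat.card_zpowers, hk])
  have h := hp.inf_normalizer_sylow P
  rw [show (P : Subgroup G) = T from hP] at h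
  have hr' : r ∈ normalizer ((P : Subgroup G) : Set G) := by rw [hP]; exact hr
  exact (mem_inf.1 (h.le (mem_inf.2 ⟨mem_zpowers r, hr'⟩))).2

/-- The normaliser of `T` normalises `A`. -/
theorem normalizer_le [Finite G] : normalizer (T : Set G) ≤ normalizer (A : Set G) := by
  intro n hn
  by_contra hnA
  set N := normalizer (T : Set G)
  set H := (normalizer (A : Set G)).subgroupOf N with hH
  have himg : ∀ m ∈ N, A.map (MulAut.conj m).toMonoidHom = A ∨
      A.map (MulAut.conj m).toMonoidHom = B := by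
    intro m hm
    refine F.eq_or_eq ?_ ?_ (by rw [card_map_conj, F.cardA])
    · rw [← map_eq_of_mem_normalizer hm]
      exact Subgroup.map_mono F.hA
    · rintro _ ⟨a, ha, rfl⟩
      simp [← map_mul, F.eA a ha]
  have hnB : A.map (MulAut.conj n).toMonoidHom = B :=
    (himg n hn).resolve_left fun h => hnA (mem_normalizer_of_map_eq h)
  have hidx : H.index = 2 := by
    rw [Subgroup.index_eq_two_iff]
    refine ⟨⟨n, hn⟩, fun m => ?_⟩
    rcases em ((m : G) ∈ normalizer (A : Set G)) with hm | hm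
    · exact Or.inr ⟨mem_subgroupOf.2 hm, fun h => hnA (by
        have h' := mul_mem (inv_mem hm) (mem_subgroupOf.1 h)
        simpa using h')⟩
    · refine Or.inl ⟨mem_subgroupOf.2 (mem_normalizer_of_map_eq ?_), fun h => hm (mem_subgroupOf.1 h)⟩
      have hmn := himg ((m : G) * n) (mul_mem m.2 hn)
      refine hmn.resolve_right fun h => ?_
      have hm' := (himg m m.2).resolve_left fun h' => hm (mem_normalizer_of_map_eq h')
      have : (A.map (MulAut.conj n).toMonoidHom).map (MulAut.conj (m : G)).toMonoidHom =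
          A.map (MulAut.conj (m : G)).toMonoidHom := by
        rw [Subgroup.map_map, hm', ← h]
        congr 1
        ext x
        simp [mul_assoc]
      exact hnA (mem_normalizer_of_map_eq
        (Subgroup.map_injective (MulAut.conj (m : G)).injective this))
  have hTN : T ≤ N := Subgroup.le_normalizer
  have hTA : T ≤ normalizer (A : Set G) := fun t ht => mem_normalizer_of_map_eq (by
    refine Subgroup.eq_of_le_of_card_ge ?_ (by rw [card_map_conj])
    rintro _ ⟨a, ha, rfl⟩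
    exact F.nA t ht a ha)
  have hle : T.subgroupOf N ≤ H := fun t ht => mem_subgroupOf.2 (hTA (mem_subgroupOf.1 ht))
  have hd : H.index ∣ (T.subgroupOf N).index := Subgroup.index_dvd_of_le hle
  rw [hidx] at hd
  exact F.odd_index (hd.trans (Subgroup.relIndex_dvd_index_of_le hTN))

theorem T_le_normalizer [Finite G] : T ≤ normalizer (A : Set G) :=
  Subgroup.le_normalizer.trans F.normalizer_le

/-- A conjugate of `z` lying in `A` comes from the normaliser of `A`. -/
theorem mem_normalizer_of_conj [Finite G] {g : G} (h : g * z * g⁻¹ ∈ A) :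
    g ∈ normalizer (A : Set G) := by
  haveI : Fact (Nat.Prime 2) := ⟨Nat.prime_two⟩
  set T' := T.map (MulAut.conj g).toMonoidHom
  have hAT : A ≤ T' := fun a ha => mem_map_conj.2 (F.mem_T.2 (by
    have hc := comm_of_sq F.eA ha h
    calc g⁻¹ * a * g * z = g⁻¹ * (a * (g * z * g⁻¹)) * g := by group
      _ = g⁻¹ * (g * z * g⁻¹ * a) * g := by rw [hc]
      _ = z * (g⁻¹ * a * g) := by group))
  set E := A.map (MulAut.conj g⁻¹).toMonoidHom
  have hE : E = A ∨ E = B := by
    refine F.eq_or_eq ?_ ?_ (by rw [card_map_conj, F.cardA])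
    · intro x hx
      have := mem_map_conj.1 hx
      have h2 := mem_map_conj.1 (hAT this)
      simpa [mul_assoc] using h2
    · rintro _ ⟨a, ha, rfl⟩
      show g⁻¹ * a * g⁻¹⁻¹ * (g⁻¹ * a * g⁻¹⁻¹) = 1
      rw [show g⁻¹ * a * g⁻¹⁻¹ * (g⁻¹ * a * g⁻¹⁻¹) = g⁻¹ * (a * a) * g⁻¹⁻¹ by group, F.eA a ha]
      group
  have hT'N : T' ≤ normalizer (A : Set G) := by
    intro t ht
    refine mem_normalizer_of_map_eq (Subgroup.eq_of_le_of_card_ge ?_ (by rw [card_map_conj]))
    rintro _ ⟨a, ha, rfl⟩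
    show t * a * t⁻¹ ∈ A
    have ht' := mem_map_conj.1 ht
    have hga : g⁻¹ * a * g ∈ E := mem_map_conj.2 (by simpa [mul_assoc] using ha)
    have key : g⁻¹ * t * g * (g⁻¹ * a * g) * (g⁻¹ * t * g)⁻¹ ∈ E := by
      rcases hE with e | e <;> rw [e] at hga ⊢
      · exact F.nA _ ht' _ hga
      · exact F.nB _ ht' _ hga
    have := mem_map_conj.1 key
    simpa [mul_assoc] using this
  obtain ⟨P, hP⟩ := F.exists_sylow
  have hgP : ((g • P : Sylow 2 G) : Subgroup G) = T' := by
    rw [Sylow.coe_subgroup_smul, hP]; rfl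
  obtain ⟨n, hn⟩ := MulAction.exists_smul_eq (normalizer (A : Set G))
    (P.subtype (hP.le.trans F.T_le_normalizer)) ((g • P).subtype (hgP.le.trans hT'N))
  have hn' : (n : G) • P = g • P := by
    refine Sylow.subtype_injective (hP := ?_) (hQ := hgP.le.trans hT'N) ?_
    · rw [Sylow.coe_subgroup_smul, hP]
      rintro _ ⟨t, ht, rfl⟩
      exact mul_mem (mul_mem n.2 (F.T_le_normalizer ht)) (inv_mem n.2)
    · rw [← hn]
      exact (Sylow.smul_subtype (hP.le.trans F.T_le_normalizer) n).symm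
  have hng : (n : G)⁻¹ * g ∈ normalizer (T : Set G) := by
    rw [← hP]
    refine Sylow.smul_eq_iff_mem_normalizer.1 ?_
    rw [mul_smul, ← hn', inv_smul_smul]
  have := mul_mem n.2 (F.normalizer_le hng)
  rwa [mul_inv_cancel_left] at this

end Flag

end CfsgLib.InvChar.LThreeFour

namespace CfsgLib.InvChar.LThreeFour

open Subgroup

universe u

/-- A flag from the shape "all involutions lie in two elementary groups of order 16". -/
theorem flag_of_invol {G : Type u} [Group G] {z : G} {T A B V : Subgroup G} (hz : orderOf z = 2)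
    (hT : centralizer ({z} : Set G) = T) (hodd : ¬ 2 ∣ T.index) (hcT : Nat.card T = 64)
    (hA : A ≤ T) (hB : B ≤ T) (eA : ∀ a ∈ A, a * a = 1) (eB : ∀ b ∈ B, b * b = 1)
    (cA : Nat.card A = 16) (cB : Nat.card B = 16) (hinter : A ⊓ B = V) (cV : Nat.card V = 4)
    (zV : z ∈ V) (hinv : ∀ t ∈ T, t * t = 1 → t ∈ A ∨ t ∈ B)
    (hcomm : ∀ a ∈ A, ∀ b ∈ B, a * b * a⁻¹ * b⁻¹ ∈ V) [Finite G] : Flag z T A B V := by
  classical
  -- every element of `T` is a product
  have hprod : ∀ t ∈ T, ∃ a ∈ A, ∃ b ∈ B, t = a * b := by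
    intro t ht
    let f : ↥A × ↥B → ↥T := fun p => ⟨(p.1 : G) * p.2, mul_mem (hA p.1.2) (hB p.2.2)⟩
    let r : ↥T → ↥A := fun x => if h : ∃ p, f p = x then h.choose.1 else 1
    have hmem : ∀ p : ↥A × ↥B, (r (f p) : G)⁻¹ * p.1 ∈ V := by
      intro p
      have h : ∃ q, f q = f p := ⟨p, rfl⟩
      have hr : r (f p) = h.choose.1 := dif_pos h
      have h' : (h.choose.1 : G) * h.choose.2 = (p.1 : G) * p.2 := congrArg Subtype.val h.choose_spec
      rw [← hinter, hr]
      refine mem_inf.2 ⟨mul_mem (inv_mem h.choose.1.2) p.1.2, ?_⟩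
      rw [show (h.choose.1 : G)⁻¹ * p.1 = (h.choose.2 : G) * (p.2 : G)⁻¹ by
        calc (h.choose.1 : G)⁻¹ * p.1 =
            (h.choose.1 : G)⁻¹ * ((p.1 : G) * p.2) * (p.2 : G)⁻¹ := by group
          _ = (h.choose.2 : G) * (p.2 : G)⁻¹ := by rw [← h']; group]
      exact mul_mem h.choose.2.2 (inv_mem p.2.2)
    let g : ↥A × ↥B → Set.range f × ↥V := fun p => (⟨f p, p, rfl⟩, ⟨_, hmem p⟩)
    have hg : Function.Injective g := by
      intro p q h
      have h1 : f p = f q := congrArg (fun u => (u.1 : ↥T)) h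
      have h2 : (r (f p) : G)⁻¹ * p.1 = (r (f q) : G)⁻¹ * q.1 := congrArg (fun u => (u.2 : G)) h
      rw [h1] at h2
      have h3 : (p.1 : G) = q.1 := mul_left_cancel h2
      have h4 : (p.1 : G) * p.2 = (q.1 : G) * q.2 := congrArg Subtype.val h1
      rw [h3] at h4
      exact Prod.ext (Subtype.ext h3) (Subtype.ext (mul_left_cancel h4))
    have hle := Nat.card_le_card_of_injective g hg
    rw [Nat.card_prod, Nat.card_prod, cA, cB, cV] at hle
    have hle2 : Nat.card (Set.range f) ≤ Nat.card ↥T :=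
      Nat.card_le_card_of_injective _ Subtype.val_injective
    have hall : Set.range f = Set.univ := by
      refine Set.eq_of_subset_of_ncard_le (Set.subset_univ _) ?_
      rw [Set.ncard_univ, ← Nat.card_coe_set_eq, hcT]
      rw [hcT] at hle2
      omega
    obtain ⟨⟨a, b⟩, hab⟩ : (⟨t, ht⟩ : ↥T) ∈ Set.range f := hall ▸ Set.mem_univ _
    exact ⟨a, a.2, b, b.2, (congrArg Subtype.val hab).symm⟩
  have hVA : V ≤ A := hinter ▸ inf_le_left
  have hVB : V ≤ B := hinter ▸ inf_le_right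
  have key : ∀ a ∈ A, ∀ b ∈ B, a * b = b * a → a ∈ V ∨ b ∈ V := by
    intro a ha b hb hab
    have h1 : a * b * (a * b) = 1 := by
      rw [show a * b * (a * b) = a * (b * a) * b by group, ← hab, show a * (a * b) * b =
        (a * a) * (b * b) by group, eA a ha, eB b hb, one_mul]
    rcases hinv _ (mul_mem (hA ha) (hB hb)) h1 with h | h
    · refine Or.inr (hinter ▸ mem_inf.2 ⟨?_, hb⟩)
      simpa using mul_mem (inv_mem ha) h
    · refine Or.inl (hinter ▸ mem_inf.2 ⟨ha, ?_⟩)
      simpa using mul_mem h (inv_mem hb)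
  refine ⟨hz, hT, hodd, hcT, hA, hB, eA, eB, cA, cB, hinter, cV, ?_, ?_, ?_, ?_, zV⟩
  · intro t ht x hx
    obtain ⟨a, ha, b, hb, rfl⟩ := hprod t ht
    have hbx : b * x * b⁻¹ ∈ A := by
      rw [show b * x * b⁻¹ = (x * b * x⁻¹ * b⁻¹)⁻¹ * x by group]
      exact mul_mem (inv_mem (hVA (hcomm x hx b hb))) hx
    rw [show a * b * x * (a * b)⁻¹ = a * (b * x * b⁻¹) * a⁻¹ by group]
    exact mul_mem (mul_mem ha hbx) (inv_mem ha)
  · intro t ht y hy
    obtain ⟨a, ha, b, hb, rfl⟩ := hprod t ht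
    have hby : b * y * b⁻¹ ∈ B := mul_mem (mul_mem hb hy) (inv_mem hb)
    rw [show a * b * y * (a * b)⁻¹ = a * (b * y * b⁻¹) * a⁻¹ * (b * y * b⁻¹)⁻¹ * (b * y * b⁻¹) by
      group]
    exact mul_mem (hVB (hcomm a ha _ hby)) hby
  · intro x hx hxV t ht hc
    obtain ⟨a, ha, b, hb, rfl⟩ := hprod t ht
    have hbx : x * b = b * x := by
      refine mul_left_cancel (a := a) ?_
      rw [← mul_assoc, ← mul_assoc, comm_of_sq eA ha hx, hc]
      group
    exact mul_mem ha (hVA ((key x hx b hb hbx).resolve_left hxV))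
  · intro y hy hyV t ht hc
    obtain ⟨a, ha, b, hb, rfl⟩ := hprod t ht
    have hay : a * y = y * a := by
      refine mul_right_cancel (b := b) ?_
      rw [mul_assoc, comm_of_sq eB hy hb, ← mul_assoc, hc]
      group
    exact mul_mem (hVB ((key a ha y hy hay).resolve_right hyV)) hb

end CfsgLib.InvChar.LThreeFour
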