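import Cfsg.Agent.Lib.InvChar.LThreeFour.Fusion

/-!
The elements of order four of the centraliser: three classes, permuted cosets of the centre, and
the ways to write them as products of two involutions.
-/

set_option autoImplicit false

namespace CfsgLib.InvChar.LThreeFour

open Subgroup

universe u

variable {G : Type u} [Group G]

/-- Conjugation by a power of `m`. -/
def cj (m : G) (i : Fin 3) (x : G) : G := m ^ (i : ℕ) * x * (m ^ (i : ℕ))⁻¹

theorem cj_zero (m x : G) : cj m 0 x = x := by simp [cj]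

theorem cj_mul (m : G) (i : Fin 3) (x y : G) : cj m i (x * y) = cj m i x * cj m i y := by
  simp [cj, mul_assoc]

theorem cj_inv (m : G) (i : Fin 3) (x : G) : cj m i x⁻¹ = (cj m i x)⁻¹ := by
  simp [cj, mul_assoc]

theorem cj_add {m : G} (hm : m ^ 3 = 1) (i j : Fin 3) (x : G) :
    cj m i (cj m j x) = cj m (i + j) x := by
  have h : m ^ ((i + j : Fin 3) : ℕ) = m ^ (i : ℕ) * m ^ (j : ℕ) := by
    rw [Fin.val_add, ← pow_add, ← pow_eq_pow_mod _ hm]
  simp only [cj, h]
  group

/-- A flag with one class of involutions and a rotation of the cosets of the centre. -/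
structure Frame (z : G) (T A B V : Subgroup G) (m a c : G) : Prop where
  flag : Flag z T A B V
  one : ∀ x : G, orderOf x = 2 → IsConj z x
  hm : orderOf m = 3
  mN : m ∈ normalizer (T : Set G)
  ha : a ∈ A
  haV : a ∉ V
  hc : c ∈ B
  hcV : c ∉ V

theorem Flag.exists_frame [Finite G] [IsSimpleGroup G] {z : G} {T A B V : Subgroup G}
    (hG : ¬ IsMulCommutative G) (F : Flag z T A B V) : ∃ m a c, Frame z T A B V m a c := by
  haveI : Fact (Nat.Prime 3) := ⟨Nat.prime_three⟩
  have hV : {x : G | x ∈ V ∧ IsConj z x} = (V : Set G) \ {1} := by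
    ext x
    refine ⟨fun h => ⟨h.1, fun e => F.z_ne (isConj_one_left.1 (e ▸ h.2))⟩, fun h => ⟨h.1, ?_⟩⟩
    exact F.all_A hG x (F.hVA h.1) h.2
  have hN : Nat.card ↥(normalizer (T : Set G)) = 192 := by
    rw [← F.card_normalizer_T, hV, Set.ncard_sdiff_singleton_of_mem (one_mem V),
      ← Nat.card_coe_set_eq, SetLike.coe_sort_coe, F.cardV]
  obtain ⟨m, hm⟩ := exists_prime_orderOf_dvd_card' 3 (G := ↥(normalizer (T : Set G)))
    (by rw [hN]; norm_num)
  obtain ⟨a, ha, haV⟩ := F.exists_A_not_V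
  obtain ⟨c, hc, hcV⟩ := F.symm.exists_A_not_V
  exact ⟨m, a, c, F, fun x hx => F.one_class hG hx, by rw [Subgroup.orderOf_coe, hm], m.2, ha, haV,
    hc, hcV⟩

namespace Frame

variable {z : G} {T A B V : Subgroup G} {m a c : G} [Finite G] (K : Frame z T A B V m a c)
include K

theorem symm : Frame z T B A V m c a :=
  ⟨K.flag.symm, K.one, K.hm, K.mN, K.hc, K.hcV, K.ha, K.haV⟩

theorem m3 : m ^ 3 = 1 := K.hm ▸ pow_orderOf_eq_one m

theorem cj_mem_A (i : Fin 3) {x : G} (hx : x ∈ A) : cj m i x ∈ A :=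
  (mem_normalizer_iff.1 (pow_mem (K.flag.normalizer_le K.mN) _) x).1 hx

theorem cj_mem_B (i : Fin 3) {x : G} (hx : x ∈ B) : cj m i x ∈ B := K.symm.cj_mem_A i hx

theorem cj_mem_V (i : Fin 3) {x : G} (hx : x ∈ V) : cj m i x ∈ V :=
  K.flag.conj_V_mem (pow_mem K.mN _) hx

theorem mem_V_of_cj (i : Fin 3) {x : G} (hx : cj m i x ∈ V) : x ∈ V := by
  have h := K.cj_mem_V (-i) hx
  rwa [cj_add K.m3, neg_add_cancel, cj_zero] at h

theorem card_cent {x : G} (hx : x * x = 1) (hx1 : x ≠ 1) :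
    Nat.card ↥(centralizer ({x} : Set G)) = 64 :=
  K.flag.card_cent_of_conj (K.one x (orderOf_eq_prime (by rwa [pow_two]) hx1))

/-- An element of order three centralises no involution. -/
theorem no_fixed {x : G} (hx : x * x = 1) (hc : m * x = x * m) : x = 1 := by
  by_contra hx1
  have h := Subgroup.orderOf_dvd_natCard _ (mem_centralizer_singleton_iff.2 hc)
  rw [K.card_cent hx hx1, K.hm] at h
  norm_num at h

/-- The three conjugates of an element of `A` multiply to one. -/
theorem prod_cj {x : G} (hx : x ∈ A) : x * cj m 1 x * cj m 2 x = 1 := by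
  have h1 := K.cj_mem_A 1 hx
  have h2 := K.cj_mem_A 2 hx
  refine K.no_fixed (K.flag.eA _ (mul_mem (mul_mem hx h1) h2)) ?_
  have h : cj m 1 (x * cj m 1 x * cj m 2 x) = x * cj m 1 x * cj m 2 x := by
    rw [cj_mul, cj_mul, cj_add K.m3, cj_add K.m3, show (1 : Fin 3) + 1 = 2 from rfl,
      show (1 : Fin 3) + 2 = 0 from rfl, cj_zero, comm_of_sq K.flag.eA (mul_mem h1 h2) hx,
      ← mul_assoc]
  simp only [cj, Fin.val_one, pow_one] at h
  calc m * (x * cj m 1 x * cj m 2 x) = m * (x * cj m 1 x * cj m 2 x) * m⁻¹ * m := by group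
    _ = (x * cj m 1 x * cj m 2 x) * m := by
      simp only [cj, Fin.val_one, pow_one]
      rw [h]

/-- The conjugates of an element of `A` outside `V` lie in three cosets of `V`. -/
theorem coset_ne {x : G} (hx : x ∈ A) (hxV : x ∉ V) {i j : Fin 3}
    (h : (cj m i x)⁻¹ * cj m j x ∈ V) : i = j := by
  have h' : cj m i (x⁻¹ * cj m (j - i) x) ∈ V := by
    rwa [cj_mul, cj_inv, cj_add K.m3, add_sub_cancel]
  have h'' := K.mem_V_of_cj i h'
  have hp := K.prod_cj hx
  have hxi : x⁻¹ = x := inv_eq_of_mul_eq_one_right (K.flag.eA x hx)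
  obtain hk | hk | hk : j - i = 0 ∨ j - i = 1 ∨ j - i = 2 := by omega
  · exact (sub_eq_zero.1 hk).symm
  · rw [hk, hxi] at h''
    have e : cj m 2 x = (x * cj m 1 x)⁻¹ := eq_inv_of_mul_eq_one_right hp
    exact absurd (K.mem_V_of_cj 2 (e ▸ inv_mem h'')) hxV
  · rw [hk, hxi] at h''
    refine absurd (K.mem_V_of_cj 1 ?_) hxV
    have e : cj m 1 x = (x * cj m 2 x)⁻¹ := eq_inv_of_mul_eq_one_right (by
      rw [mul_assoc, comm_of_sq K.flag.eA (K.cj_mem_A 2 hx) (K.cj_mem_A 1 hx), ← mul_assoc]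
      exact hp)
    exact e ▸ inv_mem h''

omit K in
/-- Representatives of the cosets of `V`. -/
def rep (m a : G) : Fin 4 → G := Fin.cons 1 fun i => cj m i a

omit K in
@[simp] theorem rep_zero : rep m a 0 = 1 := rfl

omit K in
@[simp] theorem rep_succ (i : Fin 3) : rep m a i.succ = cj m i a := rfl

theorem rep_mem (i : Fin 4) : rep m a i ∈ A := by
  induction i using Fin.cases with
  | zero => exact one_mem A
  | succ i => exact K.cj_mem_A i K.ha

theorem rep_inj {i j : Fin 4} (h : (rep m a i)⁻¹ * rep m a j ∈ V) : i = j := by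
  induction i using Fin.cases with
  | zero =>
    induction j using Fin.cases with
    | zero => rfl
    | succ j =>
      rw [rep_zero, rep_succ, inv_one, one_mul] at h
      exact absurd (K.mem_V_of_cj j h) K.haV
  | succ i =>
    induction j using Fin.cases with
    | zero =>
      rw [rep_zero, rep_succ, mul_one] at h
      exact absurd (K.mem_V_of_cj i (inv_mem_iff.1 h)) K.haV
    | succ j =>
      rw [rep_succ, rep_succ] at h
      rw [K.coset_ne K.ha K.haV h]

/-- Coordinates on `T`. -/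
def coord (p : Fin 4 × Fin 4 × ↥V) : ↥T :=
  ⟨rep m a p.1 * rep m c p.2.1 * (p.2.2 : G),
    mul_mem (mul_mem (K.flag.hA (K.rep_mem _)) (K.flag.hB (K.symm.rep_mem _)))
      (K.flag.hVT p.2.2.2)⟩

theorem coord_inj {i j k l : Fin 4} {v w : G} (hv : v ∈ V) (hw : w ∈ V)
    (h : rep m a i * rep m c j * v = rep m a k * rep m c l * w) : i = k ∧ j = l ∧ v = w := by
  have h1 : (rep m a k)⁻¹ * rep m a i = rep m c l * (w * v⁻¹) * (rep m c j)⁻¹ := by
    calc (rep m a k)⁻¹ * rep m a i =
        (rep m a k)⁻¹ * (rep m a i * rep m c j * v) * v⁻¹ * (rep m c j)⁻¹ := by group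
      _ = rep m c l * (w * v⁻¹) * (rep m c j)⁻¹ := by rw [h]; group
  have hik := K.rep_inj (K.flag.mem_V (mul_mem (inv_mem (K.rep_mem k)) (K.rep_mem i))
    (h1 ▸ mul_mem (mul_mem (K.symm.rep_mem l) (K.flag.hVB (mul_mem hw (inv_mem hv))))
      (inv_mem (K.symm.rep_mem j))))
  subst hik
  have h2 : rep m c j * v = rep m c l * w := by
    simpa [mul_assoc] using h
  have hjl := K.symm.rep_inj (i := l) (j := j) (by
    rw [show (rep m c l)⁻¹ * rep m c j = w * v⁻¹ by
      calc (rep m c l)⁻¹ * rep m c j = (rep m c l)⁻¹ * (rep m c j * v) * v⁻¹ := by group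
        _ = w * v⁻¹ := by rw [h2]; group]
    exact mul_mem hw (inv_mem hv))
  subst hjl
  exact ⟨rfl, rfl, mul_left_cancel h2⟩

theorem coord_bij : Function.Bijective K.coord := by
  refine (Nat.bijective_iff_injective_and_card _).2 ⟨fun p q h => ?_, by
    simp only [Nat.card_prod, Nat.card_fin, K.flag.cardV, K.flag.cardT]⟩
  obtain ⟨h1, h2, h3⟩ := K.coord_inj p.2.2.2 q.2.2.2 (congrArg Subtype.val h)
  exact Prod.ext h1 (Prod.ext h2 (Subtype.ext h3))

/-- Coordinates on `A`. -/
def coordA (p : Fin 4 × ↥V) : ↥A :=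
  ⟨rep m a p.1 * (p.2 : G), mul_mem (K.rep_mem _) (K.flag.hVA p.2.2)⟩

theorem coordA_bij : Function.Bijective K.coordA := by
  refine (Nat.bijective_iff_injective_and_card _).2 ⟨fun p q h => ?_, by
    simp only [Nat.card_prod, Nat.card_fin, K.flag.cardV, K.flag.cardA]⟩
  have h' : rep m a p.1 * rep m c 0 * (p.2 : G) = rep m a q.1 * rep m c 0 * (q.2 : G) := by
    simpa [coordA] using congrArg Subtype.val h
  obtain ⟨h1, -, h3⟩ := K.coord_inj p.2.2 q.2.2 h'
  exact Prod.ext h1 (Subtype.ext h3)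

/-- Conjugation in `T` fixes the cosets of `V` in `A`. -/
theorem conj_coset {x g : G} (hx : x ∈ A) (hg : g ∈ T) : x⁻¹ * (g * x * g⁻¹) ∈ V := by
  obtain ⟨a', ha', b', hb', rfl⟩ := K.flag.exists_mul hg
  have hy : b' * x * b'⁻¹ ∈ A := K.flag.nA b' (K.flag.hB hb') x hx
  rw [show a' * b' * x * (a' * b')⁻¹ = a' * (b' * x * b'⁻¹) * a'⁻¹ by group,
    comm_of_sq K.flag.eA ha' hy, mul_inv_cancel_right]
  exact K.flag.commutator_mem hx hb'

omit K in
/-- Representatives of the classes of elements of order four. -/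
def quad (m a c : G) (i : Fin 3) : G := a * cj m i c

theorem quad_mem_T (i : Fin 3) : quad m a c i ∈ T :=
  mul_mem (K.flag.hA K.ha) (K.flag.hB (K.cj_mem_B i K.hc))

theorem cjc_not_V (i : Fin 3) : cj m i c ∉ V := fun h => K.hcV (K.mem_V_of_cj i h)

theorem quad_sq_ne (i : Fin 3) : quad m a c i * quad m a c i ≠ 1 := by
  intro h
  have hc' := K.cj_mem_B i K.hc
  refine K.cjc_not_V i (K.flag.mem_V (K.flag.selfA a K.ha K.haV _ (K.flag.hB hc') ?_) hc')
  have h' : a * cj m i c = (a * cj m i c)⁻¹ := eq_inv_of_mul_eq_one_left h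
  rw [mul_inv_rev, inv_eq_of_mul_eq_one_right (K.flag.eA a K.ha),
    inv_eq_of_mul_eq_one_right (K.flag.eB _ hc')] at h'
  exact h'.symm

theorem quad_sq_mem (i : Fin 3) : quad m a c i * quad m a c i ∈ V := by
  have hc' := K.cj_mem_B i K.hc
  have h := K.flag.commutator_mem K.ha hc'
  rw [inv_eq_of_mul_eq_one_right (K.flag.eA a K.ha), inv_eq_of_mul_eq_one_right (K.flag.eB _ hc')]
    at h
  simpa [quad, mul_assoc] using h

theorem quad_inv (i : Fin 3) : IsConj (quad m a c i) (quad m a c i)⁻¹ := by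
  have hc' := K.cj_mem_B i K.hc
  refine isConj_iff.2 ⟨cj m i c, ?_⟩
  rw [quad, mul_inv_rev, inv_eq_of_mul_eq_one_right (K.flag.eA a K.ha), mul_assoc (cj m i c),
    mul_inv_cancel_right, inv_eq_of_mul_eq_one_right (K.flag.eB _ hc')]

theorem cent_quad_le (i : Fin 3) : centralizer ({quad m a c i} : Set G) ≤ T := by
  intro g hg
  rw [mem_centralizer_singleton_iff] at hg
  rw [← K.flag.cent_eq_of_mem_V (K.quad_sq_mem i)
    (K.one _ (orderOf_eq_prime (by rw [pow_two]; exact K.flag.eA _ (K.flag.hVA (K.quad_sq_mem i)))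
      (K.quad_sq_ne i))), mem_centralizer_singleton_iff]
  rw [← mul_assoc, hg, mul_assoc, hg, ← mul_assoc]

theorem card_cent_quad (i : Fin 3) :
    Nat.card ↥(centralizer ({quad m a c i} : Set G)) = 16 := by
  have horb : {y | ∃ n ∈ T, n * quad m a c i * n⁻¹ = y} =
      (fun v => quad m a c i * v) '' (V : Set G) := by
    have hc' := K.cj_mem_B i K.hc
    ext y
    constructor
    · rintro ⟨n, hn, rfl⟩
      refine ⟨_, mul_mem (K.conj_coset K.ha hn) (K.symm.conj_coset hc' hn), ?_⟩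
      show quad m a c i * _ = _
      unfold quad
      rw [show a * cj m i c * (a⁻¹ * (n * a * n⁻¹) * ((cj m i c)⁻¹ * (n * cj m i c * n⁻¹))) =
          a * (cj m i c * (a⁻¹ * (n * a * n⁻¹))) * ((cj m i c)⁻¹ * (n * cj m i c * n⁻¹)) by group,
        K.flag.comm_V (K.conj_coset K.ha hn) (K.flag.hB hc')]
      group
    · rintro ⟨v, hv, rfl⟩
      obtain ⟨a', ha', e⟩ := K.flag.symm.exists_conj_coset hc' (K.cjc_not_V i) hv
      refine ⟨a', K.flag.hA ha', ?_⟩
      show a' * (a * cj m i c) * a'⁻¹ = a * cj m i c * v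
      calc a' * (a * cj m i c) * a'⁻¹ = a' * a * cj m i c * a'⁻¹ := by group
        _ = a * (a' * cj m i c * a'⁻¹) := by rw [comm_of_sq K.flag.eA ha' K.ha]; group
        _ = a * cj m i c * v := by rw [e, mul_assoc]
  have h := orbit_card T (quad m a c i)
  rw [horb, Set.ncard_image_of_injective _ (mul_right_injective _), ← Nat.card_coe_set_eq,
    SetLike.coe_sort_coe, K.flag.cardV, inf_eq_right.2 (K.cent_quad_le i), K.flag.cardT] at h
  omega

/-- The class of an element outside `A` and `B`. -/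
theorem class_coord (i j : Fin 3) {v : G} (hv : v ∈ V) :
    IsConj (quad m a c (j - i)) (cj m i a * cj m j c * v) := by
  obtain ⟨a', ha', e⟩ := K.flag.symm.exists_conj_coset (K.cj_mem_B j K.hc) (K.cjc_not_V j) hv
  have h1 : IsConj (quad m a c (j - i)) (cj m i a * cj m j c) := by
    refine isConj_iff.2 ⟨m ^ (i : ℕ), ?_⟩
    show cj m i (a * cj m (j - i) c) = _
    rw [cj_mul, cj_add K.m3, add_sub_cancel]
  refine h1.trans (isConj_iff.2 ⟨a', ?_⟩)
  calc a' * (cj m i a * cj m j c) * a'⁻¹ = a' * cj m i a * cj m j c * a'⁻¹ := by group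
    _ = cj m i a * (a' * cj m j c * a'⁻¹) := by
      rw [comm_of_sq K.flag.eA ha' (K.cj_mem_A i K.ha)]; group
    _ = cj m i a * cj m j c * v := by rw [e, mul_assoc]

theorem V_eq : ((V : Set G) \ {1}) = Set.range fun i => cj m i z := by
  refine (Set.eq_of_subset_of_ncard_le ?_ ?_).symm
  · rintro _ ⟨i, rfl⟩
    refine ⟨K.cj_mem_V i K.flag.zV, fun e => K.flag.z_ne ?_⟩
    simpa [cj] using e
  · have hinj : Function.Injective fun i => cj m i z := by
      intro i j h
      have h' : cj m (-i) (cj m i z) = cj m (-i) (cj m j z) := congrArg (cj m (-i)) h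
      rw [cj_add K.m3, cj_add K.m3, neg_add_cancel, cj_zero] at h'
      have hp := K.prod_cj (K.flag.hVA K.flag.zV)
      have hz2 := K.flag.z_sq
      obtain hk | hk | hk : -i + j = 0 ∨ -i + j = 1 ∨ -i + j = 2 := by omega
      · exact (neg_add_eq_zero.1 hk)
      · rw [hk] at h'
        rw [← h', hz2, one_mul] at hp
        exact absurd (by simpa [cj] using hp) K.flag.z_ne
      · rw [hk] at h'
        have hp' : z * cj m 2 z * cj m 1 z = 1 := by
          rw [mul_assoc, comm_of_sq K.flag.eA (K.cj_mem_A 2 (K.flag.hVA K.flag.zV))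
            (K.cj_mem_A 1 (K.flag.hVA K.flag.zV)), ← mul_assoc]
          exact hp
        rw [← h', hz2, one_mul] at hp'
        exact absurd (by simpa [cj] using hp') K.flag.z_ne
    rw [Set.ncard_sdiff_singleton_of_mem (one_mem V), ← Nat.card_coe_set_eq, SetLike.coe_sort_coe,
      K.flag.cardV, Set.ncard_range_of_injective hinj, Nat.card_fin]

theorem normalizer_eq {g : G} (hg : g ∈ normalizer (T : Set G)) :
    ∃ k : Fin 3, ∃ t ∈ T, g = m ^ (k : ℕ) * t := by
  let f : Fin 3 × ↥T → ↥(normalizer (T : Set G)) := fun p =>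
    ⟨m ^ (p.1 : ℕ) * (p.2 : G), mul_mem (pow_mem K.mN _) (Subgroup.le_normalizer p.2.2)⟩
  have hf : Function.Injective f := by
    rintro ⟨k, t⟩ ⟨l, t'⟩ e
    have e' : m ^ (k : ℕ) * (t : G) = m ^ (l : ℕ) * (t' : G) := congrArg Subtype.val e
    have hT : (m ^ (l : ℕ))⁻¹ * m ^ (k : ℕ) ∈ T := by
      rw [show (m ^ (l : ℕ))⁻¹ * m ^ (k : ℕ) = (t' : G) * (t : G)⁻¹ by
        calc (m ^ (l : ℕ))⁻¹ * m ^ (k : ℕ) =
            (m ^ (l : ℕ))⁻¹ * (m ^ (k : ℕ) * (t : G)) * (t : G)⁻¹ := by group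
          _ = (t' : G) * (t : G)⁻¹ := by rw [e']; group]
      exact mul_mem t'.2 (inv_mem t.2)
    have h1 : ((m ^ (l : ℕ))⁻¹ * m ^ (k : ℕ)) ^ 3 = 1 := by
      have hcomm : Commute ((m ^ (l : ℕ))⁻¹) (m ^ (k : ℕ)) :=
        ((Commute.refl m).pow_pow _ _).inv_left
      rw [hcomm.mul_pow, inv_pow, ← pow_mul, ← pow_mul, mul_comm _ 3, mul_comm _ 3, pow_mul,
        pow_mul, K.m3, one_pow, one_pow, inv_one, one_mul]
    have h2 : (m ^ (l : ℕ))⁻¹ * m ^ (k : ℕ) = 1 := by
      have hd := Subgroup.orderOf_dvd_natCard _ hT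
      rw [K.flag.cardT] at hd
      exact orderOf_eq_one_iff.1 (Nat.eq_one_of_dvd_one
        (Nat.dvd_gcd (orderOf_dvd_of_pow_eq_one h1) hd))
    have hkl : k = l := Fin.ext (pow_injOn_Iio_orderOf (by rw [K.hm]; exact k.2)
      (by rw [K.hm]; exact l.2) (inv_mul_eq_one.1 h2).symm)
    subst hkl
    exact Prod.ext rfl (Subtype.ext (mul_left_cancel e'))
  have hV : {x : G | x ∈ V ∧ IsConj z x}.ncard = 3 := by
    rcases K.flag.card_conj_V with h | h
    · have hsub : ((V : Set G) \ {1}) ⊆ {x : G | x ∈ V ∧ IsConj z x} := fun x hx =>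
        ⟨hx.1, K.one x (orderOf_eq_prime (by rw [pow_two]; exact K.flag.eA x (K.flag.hVA hx.1)) hx.2)⟩
      have := Set.ncard_le_ncard hsub (Set.toFinite _)
      rw [h, Set.ncard_sdiff_singleton_of_mem (one_mem V), ← Nat.card_coe_set_eq,
        SetLike.coe_sort_coe, K.flag.cardV] at this
      norm_num at this
    · exact h
  have hb := (Nat.bijective_iff_injective_and_card f).2 ⟨hf, by
    rw [Nat.card_prod, Nat.card_fin, K.flag.cardT, ← K.flag.card_normalizer_T, hV]⟩
  obtain ⟨⟨k, t⟩, e⟩ := hb.2 ⟨g, hg⟩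
  exact ⟨k, t, t.2, (congrArg Subtype.val e).symm⟩

theorem quad_not_conj {i j : Fin 3} (h : IsConj (quad m a c i) (quad m a c j)) : i = j := by
  obtain ⟨g, hg⟩ := isConj_iff.1 h
  have hw : g * (quad m a c i * quad m a c i) * g⁻¹ = quad m a c j * quad m a c j := by
    rw [← hg]; group
  have hmem : quad m a c i * quad m a c i ∈ (V : Set G) \ {1} :=
    ⟨K.quad_sq_mem i, K.quad_sq_ne i⟩
  rw [K.V_eq] at hmem
  obtain ⟨k, hk⟩ := hmem
  have hgN : g ∈ normalizer (T : Set G) := by
    have h1 := K.flag.mem_normalizer_T (g := g * m ^ (k : ℕ)) (by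
      have e : g * m ^ (k : ℕ) * z * (g * m ^ (k : ℕ))⁻¹ =
          g * (quad m a c i * quad m a c i) * g⁻¹ := by
        rw [← show cj m k z = quad m a c i * quad m a c i from hk]; unfold cj; group
      rw [e, hw]
      exact K.quad_sq_mem j)
    simpa using mul_mem h1 (inv_mem (pow_mem K.mN (k : ℕ)))
  obtain ⟨l, t, ht, rfl⟩ := K.normalizer_eq hgN
  have hv := K.conj_coset K.ha ht
  have hw' := K.symm.conj_coset (K.cj_mem_B i K.hc) ht
  have e : cj m l a * cj m (l + i) c * cj m l ((a⁻¹ * (t * a * t⁻¹)) *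
      ((cj m i c)⁻¹ * (t * cj m i c * t⁻¹))) = cj m 0 a * cj m j c * 1 := by
    rw [cj_zero, mul_one, ← cj_add K.m3, ← cj_mul, ← cj_mul]
    refine Eq.trans ?_ hg
    show _ = m ^ (l : ℕ) * t * (a * cj m i c) * (m ^ (l : ℕ) * t)⁻¹
    rw [show a * cj m i c * (a⁻¹ * (t * a * t⁻¹) * ((cj m i c)⁻¹ * (t * cj m i c * t⁻¹))) =
        a * (cj m i c * (a⁻¹ * (t * a * t⁻¹))) * ((cj m i c)⁻¹ * (t * cj m i c * t⁻¹)) by group,
      K.flag.comm_V hv (K.flag.hB (K.cj_mem_B i K.hc))]
    unfold cj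
    group
  obtain ⟨h1, h2, -⟩ := K.coord_inj (i := l.succ) (j := (l + i).succ) (k := (0 : Fin 3).succ)
    (l := j.succ) (K.cj_mem_V l (mul_mem hv hw')) (one_mem V) (by simpa only [rep_succ] using e)
  rw [Fin.succ_inj.1 h1, zero_add] at h2
  exact Fin.succ_inj.1 h2

theorem pairs_invol :
    {u : G | orderOf u = 2 ∧ orderOf (u * z) = 2}.ncard = 26 := by
  have he : {u : G | orderOf u = 2 ∧ orderOf (u * z) = 2} =
      ((A : Set G) ∪ (B : Set G)) \ {1, z} := by
    ext x
    constructor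
    · rintro ⟨hx, hxz⟩
      have hxx : x * x = 1 := by rw [← pow_two, ← hx, pow_orderOf_eq_one]
      have hzz : x * z * (x * z) = 1 := by rw [← pow_two, ← hxz, pow_orderOf_eq_one]
      refine ⟨K.flag.invol_cases (K.flag.mem_T.2 ?_) hxx, ?_⟩
      · calc x * z = x * z * (x * z) * (z⁻¹ * x⁻¹) := by group
          _ = z⁻¹ * x⁻¹ := by rw [hzz, one_mul]
          _ = z * x := by
            rw [inv_eq_of_mul_eq_one_right K.flag.z_sq, inv_eq_of_mul_eq_one_right hxx]
      · rintro (rfl | e)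
        · simp at hx
        · rw [Set.mem_singleton_iff] at e
          subst e
          rw [K.flag.z_sq] at hxz
          simp at hxz
    · rintro ⟨hx, hne⟩
      simp only [Set.mem_insert_iff, Set.mem_singleton_iff, not_or] at hne
      have h1 : x * z ≠ 1 := fun e => hne.2 (mul_right_cancel (e.trans K.flag.z_sq.symm))
      rcases hx with hx | hx
      · exact ⟨orderOf_eq_prime (by rw [pow_two]; exact K.flag.eA x hx) hne.1,
          orderOf_eq_prime (by rw [pow_two]; exact K.flag.eA _ (mul_mem hx (K.flag.hVA K.flag.zV))) h1⟩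
      · exact ⟨orderOf_eq_prime (by rw [pow_two]; exact K.flag.eB x hx) hne.1,
          orderOf_eq_prime (by rw [pow_two]; exact K.flag.eB _ (mul_mem hx (K.flag.hVB K.flag.zV))) h1⟩
  have hsub : ({1, z} : Set G) ⊆ (A : Set G) ∪ (B : Set G) := by
    rintro x (rfl | rfl)
    exacts [Or.inl (one_mem A), Or.inl (K.flag.hVA K.flag.zV)]
  have hu := Set.ncard_union_add_ncard_inter (A : Set G) (B : Set G)
  rw [← Subgroup.coe_inf, K.flag.inter] at hu
  simp only [← Nat.card_coe_set_eq, SetLike.coe_sort_coe, K.flag.cardA, K.flag.cardB,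
    K.flag.cardV] at hu
  rw [he, Set.ncard_sdiff hsub, Set.ncard_pair K.flag.z_ne.symm]
  simp only [← Nat.card_coe_set_eq, SetLike.coe_sort_coe] at hu ⊢
  omega

theorem pairs_quad (i : Fin 3) :
    {u : G | orderOf u = 2 ∧ orderOf (u * quad m a c i) = 2}.ncard = 8 := by
  set d := cj m i c with hd
  have hdB : d ∈ B := K.cj_mem_B i K.hc
  have hdd := K.flag.eB d hdB
  have haa := K.flag.eA a K.ha
  have ord : ∀ x : G, x * x = 1 → x ≠ 1 → orderOf x = 2 := fun x h h' =>
    orderOf_eq_prime (by rwa [pow_two]) h'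
  have he : {u : G | orderOf u = 2 ∧ orderOf (u * quad m a c i) = 2} =
      (fun v => a * v) '' (V : Set G) ∪ (fun v => d * v) '' (V : Set G) := by
    ext x
    constructor
    · rintro ⟨hx, hxt⟩
      have hxx : x * x = 1 := by rw [← pow_two, ← hx, pow_orderOf_eq_one]
      have hzz : x * (a * d) * (x * (a * d)) = 1 := by rw [← pow_two, ← hxt]; exact pow_orderOf_eq_one _
      have hinv : x * (a * d) * x⁻¹ = (a * d)⁻¹ := by
        rw [inv_eq_of_mul_eq_one_right hxx, eq_inv_iff_mul_eq_one, mul_assoc]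
        exact hzz
      have hxT : x ∈ T := by
        rw [← K.flag.cent_eq_of_mem_V (K.quad_sq_mem i)
          (K.one _ (ord _ (K.flag.eA _ (K.flag.hVA (K.quad_sq_mem i))) (K.quad_sq_ne i))),
          mem_centralizer_singleton_iff]
        have hq : quad m a c i = a * d := rfl
        have h4 := K.flag.eA _ (K.flag.hVA (K.quad_sq_mem i))
        rw [hq] at h4 ⊢
        calc x * (a * d * (a * d)) = (x * (a * d) * x⁻¹) * (x * (a * d) * x⁻¹) * x := by group
          _ = ((a * d) * (a * d))⁻¹ * x := by rw [hinv]; group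
          _ = a * d * (a * d) * x := by rw [inv_eq_of_mul_eq_one_right h4]
      rcases K.flag.invol_cases hxT hxx with hxA | hxB
      · refine Or.inl ⟨a⁻¹ * x, K.flag.mem_V (mul_mem (inv_mem K.ha) hxA) ?_, mul_inv_cancel_left a x⟩
        refine K.flag.selfB d hdB (K.cjc_not_V i) _ (K.flag.hA (mul_mem (inv_mem K.ha) hxA)) ?_
        rw [inv_eq_of_mul_eq_one_right haa, comm_of_sq K.flag.eA K.ha hxA]
        have h' : x * (a * d) = (x * (a * d))⁻¹ := eq_inv_of_mul_eq_one_left hzz
        rw [← mul_assoc, mul_inv_rev, inv_eq_of_mul_eq_one_right hdd,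
          inv_eq_of_mul_eq_one_right (K.flag.eA _ (mul_mem hxA K.ha))] at h'
        exact h'
      · refine Or.inr ⟨d⁻¹ * x, K.flag.mem_V ?_ (mul_mem (inv_mem hdB) hxB),
          mul_inv_cancel_left d x⟩
        refine K.flag.selfA a K.ha K.haV _ (K.flag.hB (mul_mem (inv_mem hdB) hxB)) ?_
        rw [inv_eq_of_mul_eq_one_right hdd]
        have hy : d * x * a * (d * x * a) = 1 := by
          calc d * x * a * (d * x * a) = d * (x * (a * d) * (x * (a * d))) * d⁻¹ := by group
            _ = 1 := by rw [hzz]; group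
        have h' : d * x * a = (d * x * a)⁻¹ := eq_inv_of_mul_eq_one_left hy
        rw [mul_inv_rev, inv_eq_of_mul_eq_one_right haa,
          inv_eq_of_mul_eq_one_right (K.flag.eB _ (mul_mem hdB hxB))] at h'
        exact h'
    · rintro (⟨v, hv, rfl⟩ | ⟨v, hv, rfl⟩)
      · have hva : a * v = v * a := comm_of_sq K.flag.eA K.ha (K.flag.hVA hv)
        have e : a * v * (a * d) = v * d := by
          rw [hva, mul_assoc, ← mul_assoc a, haa, one_mul]
        refine ⟨ord _ (K.flag.eA _ (mul_mem K.ha (K.flag.hVA hv))) fun e1 => K.haV ?_, ?_⟩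
        · exact eq_inv_of_mul_eq_one_left e1 ▸ inv_mem hv
        · show orderOf (a * v * (a * d)) = 2
          rw [e]
          exact ord _ (K.flag.eB _ (mul_mem (K.flag.hVB hv) hdB)) fun e1 =>
            K.cjc_not_V i (show d ∈ V by rw [eq_inv_of_mul_eq_one_right e1]; exact inv_mem hv)
      · have hy : d * a * d⁻¹ ∈ A := K.flag.nA d (K.flag.hB hdB) a K.ha
        have hvd : d * v = v * d := comm_of_sq K.flag.eB hdB (K.flag.hVB hv)
        have e : d * v * (a * d) = v * (d * a * d⁻¹) := by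
          rw [hvd, inv_eq_of_mul_eq_one_right hdd]; group
        refine ⟨ord _ (K.flag.eB _ (mul_mem hdB (K.flag.hVB hv))) fun e1 => K.cjc_not_V i ?_, ?_⟩
        · show d ∈ V
          rw [eq_inv_of_mul_eq_one_left e1]; exact inv_mem hv
        · show orderOf (d * v * (a * d)) = 2
          rw [e]
          refine ord _ (K.flag.eA _ (mul_mem (K.flag.hVA hv) hy)) fun e1 => K.haV ?_
          have h1 : d * a * d⁻¹ ∈ V := eq_inv_of_mul_eq_one_right e1 ▸ inv_mem hv
          have h2 : d⁻¹ * (d * a * d⁻¹) * d⁻¹⁻¹ ∈ V :=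
            K.flag.conj_V_mem (inv_mem (Subgroup.le_normalizer (K.flag.hB hdB))) h1
          simpa [mul_assoc] using h2
  have hdis : Disjoint ((fun v => a * v) '' (V : Set G)) ((fun v => d * v) '' (V : Set G)) := by
    refine Set.disjoint_left.2 ?_
    rintro _ ⟨v, hv, rfl⟩ ⟨w, hw, e⟩
    exact K.haV (by
      have : a * v ∈ V := K.flag.mem_V (mul_mem K.ha (K.flag.hVA hv))
        ((show d * w = a * v from e) ▸ mul_mem hdB (K.flag.hVB hw))
      simpa using mul_mem this (inv_mem hv))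
  rw [he, Set.ncard_union_eq hdis (Set.toFinite _) (Set.toFinite _),
    Set.ncard_image_of_injective _ (mul_right_injective _),
    Set.ncard_image_of_injective _ (mul_right_injective _), ← Nat.card_coe_set_eq,
    SetLike.coe_sort_coe, K.flag.cardV]

end Frame

end CfsgLib.InvChar.LThreeFour
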