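import Cfsg.Agent.Lib.InvChar.LThreeFour.Classes
import Cfsg.Agent.Lib.Char.Galois
import Cfsg.Agent.Lib.Char.Column
import Cfsg.Agent.Lib.BlockB.ClassMul
import Cfsg.Agent.Lib.Transfer.ExcSimple

/-!
The integer columns at an involution and at the elements of order four, with their congruences,
orthogonality relations and structure constants.
-/

set_option autoImplicit false

namespace CfsgLib.InvChar.LThreeFour

open Subgroup CfsgLib
open scoped ComplexConjugate

universe u

variable {G : Type u} [Group G]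

open scoped Classical in
/-- The number of elements conjugating `a` to `b`. -/
theorem card_conjugators [Fintype G] (a b : G) :
    (Finset.univ.filter fun g : G => g * a * g⁻¹ = b).card =
      if IsConj a b then Nat.card (centralizer ({a} : Set G)) else 0 := by
  split_ifs with h
  · obtain ⟨k, rfl⟩ := isConj_iff.1 h
    rw [← Nat.card_eq_finsetCard]
    refine Nat.card_congr
      { toFun := fun g => ⟨k⁻¹ * g.1, mem_centralizer_singleton_iff.2 ?_⟩
        invFun := fun c => ⟨k * (c : G), Finset.mem_filter.2 ⟨Finset.mem_univ _, ?_⟩⟩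
        left_inv := fun g => Subtype.ext (mul_inv_cancel_left k g.1)
        right_inv := fun c => Subtype.ext (inv_mul_cancel_left k (c : G)) }
    · have hg := (Finset.mem_filter.1 g.2).2
      calc k⁻¹ * g.1 * a = k⁻¹ * (g.1 * a * g.1⁻¹) * g.1 := by group
        _ = a * (k⁻¹ * g.1) := by rw [hg]; group
    · calc k * (c : G) * a * (k * (c : G))⁻¹ = k * ((c : G) * a) * (c : G)⁻¹ * k⁻¹ := by group
        _ = k * a * k⁻¹ := by rw [mem_centralizer_singleton_iff.1 c.2]; group
  · rw [Finset.card_eq_zero, Finset.filter_eq_empty_iff]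
    exact fun g _ hg => h (isConj_iff.2 ⟨g, hg⟩)

/-- With one class of involutions of centraliser order 64, the class product at `x` counts the
involutions that invert `x`. -/
theorem class_count [Fintype G] [Fintype (Cfsg.IrrCharacter G)] {z : G} (hz : orderOf z = 2)
    (hone : ∀ x : G, orderOf x = 2 → IsConj z x)
    (h64 : Nat.card (centralizer ({z} : Set G)) = 64) (x : G) :
    (Nat.card G : ℂ) * ∑ χ : Cfsg.IrrCharacter G,
        (χ : G → ℂ) z * (χ : G → ℂ) z * conj ((χ : G → ℂ) x) / (χ : G → ℂ) 1 =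
      4096 * ({u : G | orderOf u = 2 ∧ orderOf (u * x) = 2}.ncard : ℂ) := by
  classical
  have hinv : ∀ y : G, IsConj z y ↔ orderOf y = 2 := fun y =>
    ⟨fun h => by rw [CfsgLib.Invol.orderOf_eq_of_isConj h, hz], hone y⟩
  have h1 : (Nat.card G : ℂ) * ∑ χ : Cfsg.IrrCharacter G,
        (χ : G → ℂ) z * (χ : G → ℂ) z * conj ((χ : G → ℂ) x) / (χ : G → ℂ) 1 =
      ∑ s : G, ((Finset.univ.filter fun g : G => g * (z * (s * z * s⁻¹)) * g⁻¹ = x).card : ℂ) := by
    rw [Finset.mul_sum]
    calc ∑ χ : Cfsg.IrrCharacter G, (Nat.card G : ℂ) *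
          ((χ : G → ℂ) z * (χ : G → ℂ) z * conj ((χ : G → ℂ) x) / (χ : G → ℂ) 1)
        = ∑ χ : Cfsg.IrrCharacter G, ∑ s : G,
            (χ : G → ℂ) (z * (s * z * s⁻¹)) * conj ((χ : G → ℂ) x) := by
          refine Finset.sum_congr rfl fun χ _ => ?_
          rw [← Finset.sum_mul, BlockB.sum_irr_mul_conj]
          ring
      _ = _ := by
          rw [Finset.sum_comm]
          refine Finset.sum_congr rfl fun s _ => ?_
          rw [Char.column_orthogonality, card_conjugators]
          split_ifs <;> simp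
  rw [h1]
  have h2 : ∑ s : G, (Finset.univ.filter fun g : G => g * (z * (s * z * s⁻¹)) * g⁻¹ = x).card =
      4096 * {u : G | orderOf u = 2 ∧ orderOf (u * x) = 2}.ncard := by
    simp only [Finset.card_filter]
    rw [Finset.sum_comm]
    have hstep : ∀ g : G, (∑ s : G, if g * (z * (s * z * s⁻¹)) * g⁻¹ = x then 1 else 0) =
        if orderOf (g * z * g⁻¹ * x) = 2 then 64 else 0 := by
      intro g
      rw [← h64, ← Equiv.sum_comp (Equiv.mulLeft g⁻¹)]
      have e : ∀ h : G, (g * (z * ((Equiv.mulLeft g⁻¹) h * z * ((Equiv.mulLeft g⁻¹) h)⁻¹)) * g⁻¹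
          = x) ↔ (h * z * h⁻¹ = g * z * g⁻¹ * x) := by
        intro h
        have hu : (g * z * g⁻¹)⁻¹ = g * z * g⁻¹ := inv_eq_of_mul_eq_one_right (by
          rw [show g * z * g⁻¹ * (g * z * g⁻¹) = g * (z * z) * g⁻¹ by group,
            show z * z = 1 by rw [← pow_two, ← hz, pow_orderOf_eq_one]]
          group)
        have e1 : g * (z * (g⁻¹ * h * z * (g⁻¹ * h)⁻¹)) * g⁻¹ = (g * z * g⁻¹) * (h * z * h⁻¹) := by
          group
        rw [Equiv.coe_mulLeft, e1, ← eq_inv_mul_iff_mul_eq, hu]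
      simp only [e, ← Finset.card_filter, card_conjugators]
      simp only [hinv]
    simp only [hstep]
    have hs : ∀ f : G → ℕ, ∑ g : G, f (g * z * g⁻¹) =
        ∑ w : G, if orderOf w = 2 then 64 * f w else 0 := by
      intro f
      rw [← Finset.sum_fiberwise Finset.univ (fun g => g * z * g⁻¹) fun g => f (g * z * g⁻¹)]
      refine Finset.sum_congr rfl fun w _ => ?_
      rw [Finset.sum_congr rfl (g := fun _ => f w) (fun g hg => by rw [(Finset.mem_filter.1 hg).2]),
        Finset.sum_const, smul_eq_mul, card_conjugators, h64]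
      simp only [hinv]
      split_ifs <;> simp
    rw [hs fun w => if orderOf (w * x) = 2 then 64 else 0, Set.ncard_eq_toFinset_card',
      Set.toFinset_setOf, Finset.card_filter, Finset.mul_sum]
    refine Finset.sum_congr rfl fun w _ => ?_
    by_cases hw : orderOf w = 2 <;> by_cases hwx : orderOf (w * x) = 2 <;> simp [hw, hwx]
  exact_mod_cast h2

/-- A character value at an element of order four that is conjugate to its inverse is an integer. -/
theorem exists_int_of_inv [Finite G] {χ : G → ℂ} (hχ : Cfsg.IsCharacter G χ) {g : G}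
    (h4 : g ^ 4 = 1) (h : IsConj g g⁻¹) : ∃ k : ℤ, χ g = k := by
  have hrat : ∃ q : ℚ, χ g = q := by
    refine Char.exists_rat_of_emb_fixed (Char.charVal hχ g) fun ψ => ?_
    obtain ⟨k, hk, hψ⟩ := Char.exists_pow_of_emb (Nat.card_pos (α := G)) ψ
    rw [Char.emb_charVal hχ ψ hψ g]
    show χ (g ^ k) = χ g
    refine (Char.isClassFunction_isConj (Char.isCharacter_isClassFunction hχ) ?_).symm
    by_cases h1 : g ^ 2 = 1
    · by_cases hg : g = 1
      · rw [hg, one_pow]
      · have ho : orderOf g = 2 := orderOf_eq_prime h1 hg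
        have hodd : k % 2 = 1 := by
          have hd : 2 ∣ Nat.card G := ho ▸ orderOf_dvd_natCard g
          have := Nat.Coprime.coprime_dvd_right hd hk
          have h2 := Nat.Coprime.symm this
          rw [Nat.prime_two.coprime_iff_not_dvd] at h2
          omega
        have hk1 : g ^ k = g := by
          rw [← pow_mod_orderOf g k, ho, hodd, pow_one]
        rw [hk1]
    · have ho : orderOf g = 4 := by
        have := orderOf_eq_prime_pow (p := 2) (n := 1) (x := g) (by simpa using h1)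
          (by simpa using h4)
        simpa using this
      have hodd : k % 4 = 1 ∨ k % 4 = 3 := by
        have hd : 2 ∣ Nat.card G := dvd_trans (by norm_num) (ho ▸ orderOf_dvd_natCard g)
        have h2 := Nat.Coprime.symm (Nat.Coprime.coprime_dvd_right hd hk)
        rw [Nat.prime_two.coprime_iff_not_dvd] at h2
        omega
      rcases hodd with e | e
      · rw [← pow_mod_orderOf g k, ho, e, pow_one]
      · have h3 : g ^ k = g⁻¹ := by
          rw [← pow_mod_orderOf g k, ho, e]
          exact eq_inv_of_mul_eq_one_left (by rw [← pow_succ]; exact h4)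
        rw [h3]; exact h
  obtain ⟨q, hq⟩ := hrat
  obtain ⟨n, ρ, rfl⟩ := hχ
  obtain ⟨k, rfl⟩ := Char.exists_int_of_isIntegral_rat (q := q) (by
    rw [← hq]; exact Char.char_isIntegral ρ g)
  exact ⟨k, by rw [hq]; simp⟩

/-- A character sum over a subgroup is a multiple of its order. -/
theorem exists_sum_eq [Finite G] {χ : G → ℂ} (hχ : Cfsg.IsCharacter G χ) (H : Subgroup G)
    [Fintype H] : ∃ n : ℕ, ∑ x : H, χ x = (Nat.card H : ℂ) * n := by
  obtain ⟨n, hn⟩ := Char.classInner_isCharacter_nat (Char.isCharacter_restrict hχ H)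
    (Char.isCharacter_one (G := ↥H))
  refine ⟨n, ?_⟩
  rw [Char.classInner_def] at hn
  simp only [map_one, mul_one] at hn
  rw [← hn, ← mul_assoc, mul_inv_cancel₀ (by exact_mod_cast Nat.card_pos.ne'), one_mul]

/-- The integer columns at the involution and at the elements of order four. -/
structure Data (N : ℕ) (ι : Type*) [Fintype ι] [DecidableEq ι] (i0 : ι) (d a : ι → ℤ)
    (t : Fin 3 → ι → ℤ) : Prop where
  d0 : d i0 = 1
  a0 : a i0 = 1
  t0 : ∀ c, t c i0 = 1
  big : ∀ i, i ≠ i0 → 2 ≤ d i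
  cT : ∀ i, (64 : ℤ) ∣ d i + 27 * a i + 12 * (t 0 i + t 1 i + t 2 i)
  cA : ∀ i, (16 : ℤ) ∣ d i + 15 * a i
  cH : ∀ c i, (16 : ℤ) ∣ d i + 11 * a i + 4 * t c i
  aa : ∑ i, a i * a i = 64
  tt : ∀ c c', ∑ i, t c i * t c' i = if c = c' then 16 else 0
  at' : ∀ c, ∑ i, a i * t c i = 0
  da : ∑ i, d i * a i = 0
  dt : ∀ c, ∑ i, d i * t c i = 0
  sq : ∑ i, d i * d i = (N : ℤ)
  Sa : (N : ℚ) * ∑ i, (a i : ℚ) ^ 3 / (d i : ℚ) = 106496
  St : (N : ℚ) * ∑ i, (a i : ℚ) ^ 2 * (t 0 i : ℚ) / (d i : ℚ) = 32768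

namespace Frame

variable {z : G} {T A B V : Subgroup G} {m a c : G} [Finite G] (K : Frame z T A B V m a c)
include K

/-- The subgroup of order 16 generated by `V`, `a` and a conjugate of `c`. -/
def mixed (i : Fin 3) : Subgroup G where
  carrier := {x | ∃ p : Fin 2 × Fin 2 × ↥V,
    x = ![1, a] p.1 * ![1, cj m i c] p.2.1 * (p.2.2 : G)}
  one_mem' := ⟨(0, 0, 1), by simp⟩
  mul_mem' := by
    rintro _ _ ⟨⟨j, k, v⟩, rfl⟩ ⟨⟨j', k', w⟩, rfl⟩
    have hA : ∀ j : Fin 2, ![1, a] j ∈ A := fun j => by fin_cases j <;> simp [K.ha, one_mem]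
    have hB : ∀ k : Fin 2, ![1, cj m i c] k ∈ B := fun k => by
      fin_cases k <;> simp [K.cj_mem_B i K.hc, one_mem]
    set u := (![1, a] j')⁻¹ * (![1, cj m i c] k * ![1, a] j' * (![1, cj m i c] k)⁻¹)
    have hu : u ∈ V := K.flag.commutator_mem (hA j') (hB k)
    have eA : ∀ j j' : Fin 2, ![1, a] j * ![1, a] j' = ![1, a] (j + j') := fun j j' => by
      fin_cases j <;> fin_cases j' <;> simp [K.flag.eA a K.ha]
    have eB : ∀ k k' : Fin 2, ![1, cj m i c] k * ![1, cj m i c] k' = ![1, cj m i c] (k + k') :=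
      fun k k' => by
        fin_cases k <;> fin_cases k' <;> simp [K.flag.eB _ (K.cj_mem_B i K.hc)]
    refine ⟨(j + j', k + k', ⟨u * (v : G) * w, mul_mem (mul_mem hu v.2) w.2⟩), ?_⟩
    have hswap : ![1, cj m i c] k * ![1, a] j' = ![1, a] j' * u * ![1, cj m i c] k := by
      simp only [u]; group
    show _ = ![1, a] (j + j') * ![1, cj m i c] (k + k') * (u * (v : G) * w)
    rw [← eA, ← eB]
    have hv : ∀ {y : G}, y ∈ T → y * (v : G) = (v : G) * y := fun h => K.flag.comm_V v.2 h
    calc ![1, a] j * ![1, cj m i c] k * (v : G) * (![1, a] j' * ![1, cj m i c] k' * (w : G))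
        = ![1, a] j * ![1, cj m i c] k * ((v : G) * ![1, a] j') * ![1, cj m i c] k' * w := by group
      _ = ![1, a] j * (![1, cj m i c] k * ![1, a] j') * ((v : G) * ![1, cj m i c] k') * w := by
          rw [← hv (K.flag.hA (hA j'))]; group
      _ = ![1, a] j * (![1, a] j' * (u * ![1, cj m i c] k)) * (![1, cj m i c] k' * v) * w := by
          rw [hswap, ← hv (K.flag.hB (hB k'))]; group
      _ = ![1, a] j * ![1, a] j' * (![1, cj m i c] k * (u * ![1, cj m i c] k')) * v * w := by
          rw [← K.flag.comm_V hu (K.flag.hB (hB k))]; group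
      _ = _ := by rw [← K.flag.comm_V hu (K.flag.hB (hB k'))]; group
  inv_mem' := by
    rintro _ ⟨⟨j, k, v⟩, rfl⟩
    have hA : ![1, a] j ∈ A := by fin_cases j <;> simp [K.ha, one_mem]
    have hB : ![1, cj m i c] k ∈ B := by fin_cases k <;> simp [K.cj_mem_B i K.hc, one_mem]
    set u := (![1, a] j)⁻¹ * (![1, cj m i c] k * ![1, a] j * (![1, cj m i c] k)⁻¹)
    have hu : u ∈ V := K.flag.commutator_mem hA hB
    refine ⟨(j, k, ⟨u * (v : G)⁻¹, mul_mem hu (inv_mem v.2)⟩), ?_⟩
    show _ = ![1, a] j * ![1, cj m i c] k * (u * (v : G)⁻¹)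
    rw [mul_inv_rev, mul_inv_rev, inv_eq_of_mul_eq_one_right (K.flag.eA _ hA),
      inv_eq_of_mul_eq_one_right (K.flag.eB _ hB)]
    calc (v : G)⁻¹ * (![1, cj m i c] k * ![1, a] j)
        = ![1, cj m i c] k * ![1, a] j * (v : G)⁻¹ :=
          (K.flag.comm_V (inv_mem v.2) (mul_mem (K.flag.hB hB) (K.flag.hA hA))).symm
      _ = ![1, a] j * (u * ![1, cj m i c] k) * (v : G)⁻¹ := by simp only [u]; group
      _ = _ := by rw [← K.flag.comm_V hu (K.flag.hB hB)]; group

/-- Coordinates on `mixed`. -/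
def coordH (i : Fin 3) (p : Fin 2 × Fin 2 × ↥V) : ↥(K.mixed i) :=
  ⟨![1, a] p.1 * ![1, cj m i c] p.2.1 * (p.2.2 : G), p, rfl⟩

theorem coordH_bij (i : Fin 3) : Function.Bijective (K.coordH i) := by
  refine ⟨fun p q h => ?_, fun x => ?_⟩
  · have e1 : ∀ j : Fin 2, ![1, a] j = rep m a (![0, (0 : Fin 3).succ] j) := fun j => by
      fin_cases j
      · rfl
      · exact (cj_zero m a).symm
    have e2 : ∀ j : Fin 2, ![1, cj m i c] j = rep m c (![0, i.succ] j) := fun j => by
      fin_cases j <;> rfl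
    have h' : ![1, a] p.1 * ![1, cj m i c] p.2.1 * (p.2.2 : G) =
        ![1, a] q.1 * ![1, cj m i c] q.2.1 * (q.2.2 : G) := congrArg Subtype.val h
    rw [e1, e1, e2, e2] at h'
    obtain ⟨h1, h2, h3⟩ := K.coord_inj p.2.2.2 q.2.2.2 h'
    have k1 : Function.Injective (![0, (0 : Fin 3).succ] : Fin 2 → Fin 4) := by decide
    have k2 : ∀ l : Fin 3, Function.Injective (![0, l.succ] : Fin 2 → Fin 4) := by decide
    exact Prod.ext (k1 h1) (Prod.ext (k2 i h2) (Subtype.ext h3))
  · obtain ⟨p, hp⟩ := x.2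
    exact ⟨p, Subtype.ext hp.symm⟩

theorem quad_pow_four (i : Fin 3) : quad m a c i ^ 4 = 1 := by
  rw [show (4 : ℕ) = 2 + 2 from rfl, pow_add, pow_two]
  exact K.flag.eA _ (K.flag.hVA (K.quad_sq_mem i))

theorem isConj_invol {x : G} (hx : x * x = 1) (hx1 : x ≠ 1) : IsConj z x :=
  K.one x (orderOf_eq_prime (by rwa [pow_two]) hx1)

open scoped Classical in
/-- The values of a class function on `T` by coordinates. -/
theorem value_coord {χ : G → ℂ} (hχ : Cfsg.IsClassFunction G χ) (i j : Fin 4) {v : G}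
    (hv : v ∈ V) :
    χ (rep m a i * rep m c j * v) =
      Fin.cases (Fin.cases (if v = 1 then χ 1 else χ z) (fun _ => χ z) j)
        (fun k => Fin.cases (χ z) (fun l => χ (quad m a c (l - k))) j) i := by
  classical
  have hzv : ∀ x : G, x ∈ A ∨ x ∈ B → x ≠ 1 → χ x = χ z := by
    intro x hx hx1
    refine (Char.isClassFunction_isConj hχ (K.isConj_invol ?_ hx1)).symm
    exact hx.elim (K.flag.eA x) (K.flag.eB x)
  induction i using Fin.cases with
  | zero =>
    induction j using Fin.cases with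
    | zero =>
      simp only [rep_zero, one_mul, Fin.cases_zero]
      split_ifs with h
      · rw [h]
      · exact hzv v (Or.inl (K.flag.hVA hv)) h
    | succ l =>
      simp only [rep_zero, rep_succ, one_mul, Fin.cases_zero, Fin.cases_succ]
      refine hzv _ (Or.inr (mul_mem (K.cj_mem_B l K.hc) (K.flag.hVB hv))) fun e => ?_
      exact K.cjc_not_V l ((eq_inv_of_mul_eq_one_left e) ▸ inv_mem hv)
  | succ k =>
    induction j using Fin.cases with
    | zero =>
      simp only [rep_zero, rep_succ, mul_one, Fin.cases_zero, Fin.cases_succ]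
      refine hzv _ (Or.inl (mul_mem (K.cj_mem_A k K.ha) (K.flag.hVA hv))) fun e => ?_
      exact K.haV (K.mem_V_of_cj k ((eq_inv_of_mul_eq_one_left e) ▸ inv_mem hv))
    | succ l =>
      simp only [rep_succ, Fin.cases_succ]
      exact (Char.isClassFunction_isConj hχ (K.class_coord k l hv)).symm

open scoped Classical in
theorem sum_V [Fintype ↥V] {χ : G → ℂ} :
    ∑ v : ↥V, (if (v : G) = 1 then χ 1 else χ z) = χ 1 + 3 * χ z := by
  classical
  rw [← Finset.add_sum_erase _ _ (Finset.mem_univ (1 : ↥V)),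
    Finset.sum_congr rfl (g := fun _ => χ z) (fun v hv => by
      exact if_neg fun (e : (v : G) = 1) =>
        (Finset.mem_erase.1 hv).1 (Subtype.ext e)),
    Finset.sum_const, Finset.card_erase_of_mem (Finset.mem_univ _), Finset.card_univ,
    ← Nat.card_eq_fintype_card, K.flag.cardV]
  simp

theorem congr_T {χ : G → ℂ} (hχ : Cfsg.IsCharacter G χ) :
    ∃ n : ℕ, χ 1 + 27 * χ z +
      12 * (χ (quad m a c 0) + χ (quad m a c 1) + χ (quad m a c 2)) = 64 * (n : ℂ) := by
  classical
  have := Fintype.ofFinite ↥T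
  have := Fintype.ofFinite ↥V
  obtain ⟨n, hn⟩ := exists_sum_eq hχ T
  refine ⟨n, ?_⟩
  rw [K.flag.cardT, ← Fintype.sum_bijective K.coord K.coord_bij _ _ (fun p => rfl)] at hn
  simp only [coord, Fintype.sum_prod_type, K.value_coord (Char.isCharacter_isClassFunction hχ) _ _
    (Subtype.coe_prop _)] at hn
  simp only [Fin.sum_univ_succ (n := 3), Fin.cases_zero, Fin.cases_succ, K.sum_V,
    Finset.sum_const, Finset.card_univ, ← Nat.card_eq_fintype_card, K.flag.cardV,
    Fin.sum_univ_three, nsmul_eq_mul, Nat.cast_ofNat] at hn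
  simp only [show (0 : Fin 3) - 1 = 2 from rfl, show (0 : Fin 3) - 2 = 1 from rfl,
    show (1 : Fin 3) - 2 = 2 from rfl, show (2 : Fin 3) - 1 = 1 from rfl, sub_zero, sub_self] at hn
  linear_combination hn

theorem congr_A {χ : G → ℂ} (hχ : Cfsg.IsCharacter G χ) :
    ∃ n : ℕ, χ 1 + 15 * χ z = 16 * (n : ℂ) := by
  classical
  have := Fintype.ofFinite ↥A
  have := Fintype.ofFinite ↥V
  obtain ⟨n, hn⟩ := exists_sum_eq hχ A
  refine ⟨n, ?_⟩
  rw [K.flag.cardA, ← Fintype.sum_bijective K.coordA K.coordA_bij _ _ (fun p => rfl)] at hn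
  have hv : ∀ p : Fin 4 × ↥V, ((K.coordA p : ↥A) : G) = rep m a p.1 * rep m c 0 * (p.2 : G) :=
    fun p => by simp [coordA]
  simp only [hv, Fintype.sum_prod_type, K.value_coord (Char.isCharacter_isClassFunction hχ) _ _
    (Subtype.coe_prop _)] at hn
  simp only [Fin.sum_univ_succ (n := 3), Fin.cases_zero, Fin.cases_succ, K.sum_V,
    Finset.sum_const, Finset.card_univ, ← Nat.card_eq_fintype_card, K.flag.cardV, Nat.card_fin,
    nsmul_eq_mul, Nat.cast_ofNat] at hn
  linear_combination hn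

theorem congr_H {χ : G → ℂ} (hχ : Cfsg.IsCharacter G χ) (i : Fin 3) :
    ∃ n : ℕ, χ 1 + 11 * χ z + 4 * χ (quad m a c i) = 16 * (n : ℂ) := by
  classical
  have := Fintype.ofFinite ↥(K.mixed i)
  have := Fintype.ofFinite ↥V
  obtain ⟨n, hn⟩ := exists_sum_eq hχ (K.mixed i)
  refine ⟨n, ?_⟩
  rw [← Fintype.sum_bijective (K.coordH i) (K.coordH_bij i) _ _ (fun p => rfl),
    ← Nat.card_congr (Equiv.ofBijective _ (K.coordH_bij i)), Nat.card_prod, Nat.card_prod,
    Nat.card_fin, K.flag.cardV] at hn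
  have hcl := Char.isCharacter_isClassFunction hχ
  have v00 : ∀ v : ↥V, χ (v : G) = if (v : G) = 1 then χ 1 else χ z := fun v => by
    have := K.value_coord hcl 0 0 v.2
    simpa using this
  have v01 : ∀ v : ↥V, χ (cj m i c * (v : G)) = χ z := fun v => by
    have := K.value_coord hcl 0 i.succ v.2
    simpa using this
  have v10 : ∀ v : ↥V, χ (a * (v : G)) = χ z := fun v => by
    have := K.value_coord hcl (0 : Fin 3).succ 0 v.2
    simpa only [rep_succ, rep_zero, cj_zero, mul_one, Fin.cases_succ, Fin.cases_zero] using this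
  have v11 : ∀ v : ↥V, χ (a * cj m i c * (v : G)) = χ (quad m a c i) := fun v => by
    have := K.value_coord hcl (0 : Fin 3).succ i.succ v.2
    simpa only [rep_succ, cj_zero, Fin.cases_succ, sub_zero] using this
  simp only [coordH, Fintype.sum_prod_type, Fin.sum_univ_two, Matrix.cons_val_zero,
    Matrix.cons_val_one, one_mul, mul_one, v01, v10, v11, Finset.sum_const, Finset.card_univ,
    ← Nat.card_eq_fintype_card, K.flag.cardV, nsmul_eq_mul, Nat.cast_ofNat] at hn
  rw [Finset.sum_congr rfl fun v _ => v00 v, K.sum_V] at hn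
  push_cast at hn
  linear_combination hn

theorem exists_data [IsSimpleGroup G] (hG : ¬ IsMulCommutative G) :
    ∃ (ι : Type u) (_ : Fintype ι) (_ : DecidableEq ι) (i0 : ι) (d f : ι → ℤ)
      (t : Fin 3 → ι → ℤ), Data (Nat.card G) ι i0 d f t := by
  classical
  have := Fintype.ofFinite G
  have := Fintype.ofFinite (Cfsg.IrrCharacter G)
  have hz2 := K.flag.z_sq
  have hch : ∀ χ : Cfsg.IrrCharacter G, Cfsg.IsCharacter G (χ : G → ℂ) :=
    fun χ => Char.irr_isCharacter χ.2
  choose f hf using fun χ : Cfsg.IrrCharacter G =>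
    CfsgLib.Transfer.exists_int_char_involution (hch χ) hz2
  choose t ht using fun (i : Fin 3) (χ : Cfsg.IrrCharacter G) =>
    exists_int_of_inv (hch χ) (K.quad_pow_four i) (K.quad_inv i)
  let d : Cfsg.IrrCharacter G → ℤ := fun χ => (Cfsg.charDegree (χ : G → ℂ) : ℤ)
  have hd : ∀ χ : Cfsg.IrrCharacter G, (χ : G → ℂ) 1 = (d χ : ℂ) := fun χ => by
    rw [← BlockB.irr_degree_cast χ]; simp [d]
  let i0 : Cfsg.IrrCharacter G := ⟨fun _ => 1, Char.isIrrCharacter_one⟩
  have hzne : ∀ i, ¬ IsConj z (quad m a c i) := fun i h => by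
    have hs := CfsgLib.Invol.orderOf_eq_of_isConj h
    rw [K.flag.hz] at hs
    refine K.quad_sq_ne i ?_
    rw [← pow_two, ← hs, pow_orderOf_eq_one]
  have hqne : ∀ i, quad m a c i ≠ 1 := fun i e => K.quad_sq_ne i (by rw [e, one_mul])
  have horth : ∀ x y : G, ∀ (p q : Cfsg.IrrCharacter G → ℤ) (r : ℤ),
      (∀ χ : Cfsg.IrrCharacter G, (χ : G → ℂ) x = (p χ : ℂ)) →
      (∀ χ : Cfsg.IrrCharacter G, (χ : G → ℂ) y = (q χ : ℂ)) →
      (IsConj x y ∧ (Nat.card (centralizer ({x} : Set G)) : ℤ) = r ∨ ¬ IsConj x y ∧ r = 0) →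
      ∑ χ, p χ * q χ = r := by
    intro x y p q r hp hq hr
    have h := Char.column_orthogonality x y
    rcases hr with ⟨hc, rfl⟩ | ⟨hc, rfl⟩
    all_goals simp only [hc, if_true, if_false] at h
    all_goals simp only [hp, hq, map_intCast] at h
    all_goals exact_mod_cast h
  have hdvd : ∀ (n : ℕ) (x : ℤ), (∃ k : ℕ, (x : ℂ) = (n : ℂ) * (k : ℂ)) → (n : ℤ) ∣ x := by
    rintro n x ⟨k, hk⟩
    exact ⟨k, by exact_mod_cast hk⟩
  have hcz : Nat.card (centralizer ({z} : Set G)) = 64 := by rw [K.flag.hT, K.flag.cardT]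
  refine ⟨Cfsg.IrrCharacter G, inferInstance, inferInstance, i0, d, f, t,
    { d0 := ?_, a0 := ?_, t0 := fun i => ?_, big := fun χ hχ => ?_, cT := fun χ => ?_
      cA := fun χ => ?_, cH := fun i χ => ?_, aa := ?_, tt := fun i j => ?_, at' := fun i => ?_
      da := ?_, dt := fun i => ?_, sq := ?_, Sa := ?_, St := ?_ }⟩
  · have := hd i0
    change (1 : ℂ) = _ at this
    exact_mod_cast this.symm
  · have := hf i0
    change (1 : ℂ) = _ at this
    exact_mod_cast this.symm
  · have := ht i i0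
    change (1 : ℂ) = _ at this
    exact_mod_cast this.symm
  · have h1 : 1 ≤ d χ := by
      simp only [d]
      exact_mod_cast BlockB.irr_degree_pos χ
    have h2 : d χ ≠ 1 := fun e => CfsgLib.Transfer.irr_apply_one_ne_one hG χ
      (fun e' => hχ (Subtype.ext e')) (by rw [hd, e]; simp)
    omega
  · refine hdvd 64 _ ?_
    obtain ⟨k, hk⟩ := K.congr_T (hch χ)
    exact ⟨k, by push_cast; rw [← hd, ← hf, ← ht, ← ht, ← ht]; exact hk⟩
  · refine hdvd 16 _ ?_
    obtain ⟨k, hk⟩ := K.congr_A (hch χ)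
    exact ⟨k, by push_cast; rw [← hd, ← hf]; exact hk⟩
  · refine hdvd 16 _ ?_
    obtain ⟨k, hk⟩ := K.congr_H (hch χ) i
    exact ⟨k, by push_cast; rw [← hd, ← hf, ← ht]; exact hk⟩
  · exact horth z z f f 64 hf hf (Or.inl ⟨IsConj.refl z, by rw [hcz]; norm_num⟩)
  · refine horth _ _ (t i) (t j) _ (ht i) (ht j) ?_
    by_cases hij : i = j
    · subst hij
      exact Or.inl ⟨IsConj.refl _, by rw [if_pos rfl, K.card_cent_quad]; norm_num⟩
    · exact Or.inr ⟨fun h => hij (K.quad_not_conj h), if_neg hij⟩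
  · exact horth z _ f (t i) 0 hf (ht i) (Or.inr ⟨hzne i, rfl⟩)
  · exact horth 1 z d f 0 hd hf (Or.inr ⟨fun h => K.flag.z_ne (isConj_one_right.1 h), rfl⟩)
  · exact horth 1 _ d (t i) 0 hd (ht i) (Or.inr ⟨fun h => hqne i (isConj_one_right.1 h), rfl⟩)
  · have h := Char.sum_irr_sq (G := G)
    simp only [hd, pow_two] at h
    exact_mod_cast h
  · have h := class_count K.flag.hz K.one hcz z
    rw [K.pairs_invol] at h
    simp only [hf, hd, map_intCast] at h
    refine Rat.cast_injective (α := ℂ) ?_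
    push_cast
    refine Eq.trans ?_ (h.trans (by norm_num))
    congr 1
    exact Finset.sum_congr rfl fun χ _ => by ring
  · have h := class_count K.flag.hz K.one hcz (quad m a c 0)
    rw [K.pairs_quad] at h
    simp only [hf, ht, hd, map_intCast] at h
    refine Rat.cast_injective (α := ℂ) ?_
    push_cast
    refine Eq.trans ?_ (h.trans (by norm_num))
    congr 1
    exact Finset.sum_congr rfl fun χ _ => by ring

end Frame

end CfsgLib.InvChar.LThreeFour
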