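import Cfsg.Agent.Lib.InvChar.LThreeFour.Orbit
import Cfsg.Agent.Lib.InvChar.SimpleInvol
import Cfsg.Agent.Lib.Transfer.Thompson
import Cfsg.Agent.Lib.Transfer.Frobenius
import Cfsg.Agent.Lib.Invol.Basic

/-!
A non-abelian simple group with such an involution has one class of involutions.
-/

set_option autoImplicit false

namespace CfsgLib.InvChar.LThreeFour

open Subgroup

universe u

variable {G : Type u} [Group G]

theorem no_index_two [Finite G] [IsSimpleGroup G] (hG : ¬ IsMulCommutative G) {M : Subgroup G}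
    (hM : M.Normal) : M.index ≠ 2 := by
  intro h
  haveI : Fact (Nat.Prime 2) := ⟨Nat.prime_two⟩
  rcases hM.eq_bot_or_eq_top with e | e
  · rw [e, Subgroup.index_bot] at h
    exact hG (isCyclic_of_prime_card (p := 2) h).isMulCommutative
  · rw [e, Subgroup.index_top] at h
    norm_num at h

theorem inv_conj_fix {K : Type*} [Group K] {a b w : K}
    (e : a⁻¹ * (w * a * w⁻¹) = b⁻¹ * (w * b * w⁻¹)) : b * a⁻¹ = w * (b * a⁻¹) * w⁻¹ := by
  calc b * a⁻¹ = b * (a⁻¹ * (w * a * w⁻¹)) * (w * a⁻¹ * w⁻¹) := by group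
    _ = b * (b⁻¹ * (w * b * w⁻¹)) * (w * a⁻¹ * w⁻¹) := by rw [e]
    _ = w * (b * a⁻¹) * w⁻¹ := by group

theorem inv_conj_inverts {K : Type*} [Group K] {a w : K} (hw : w * w = 1) :
    w * (a⁻¹ * (w * a * w⁻¹)) * w⁻¹ = (a⁻¹ * (w * a * w⁻¹))⁻¹ := by
  calc w * (a⁻¹ * (w * a * w⁻¹)) * w⁻¹ = (w * a⁻¹ * w⁻¹) * ((w * w) * a * (w * w)⁻¹) := by group
    _ = (a⁻¹ * (w * a * w⁻¹))⁻¹ := by rw [hw]; group

namespace Flag

variable {z : G} {T A B V : Subgroup G}

theorem card_cent_of_conj [Finite G] (F : Flag z T A B V) {v : G} (h : IsConj z v) :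
    Nat.card ↥(centralizer ({v} : Set G)) = 64 := by
  obtain ⟨g, rfl⟩ := isConj_iff.1 h
  rw [← F.cardT, ← card_map_conj T g]
  congr 2
  ext x
  rw [mem_map_conj, F.mem_T, mem_centralizer_singleton_iff]
  constructor
  · intro hx
    calc g⁻¹ * x * g * z = g⁻¹ * (x * (g * z * g⁻¹)) * g := by group
      _ = g⁻¹ * (g * z * g⁻¹ * x) * g := by rw [hx]
      _ = z * (g⁻¹ * x * g) := by group
  · intro hx
    calc x * (g * z * g⁻¹) = g * (g⁻¹ * x * g * z) * g⁻¹ := by group
      _ = g * (z * (g⁻¹ * x * g)) * g⁻¹ := by rw [hx]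
      _ = g * z * g⁻¹ * x := by group

theorem cent_eq_of_mem_V [Finite G] (F : Flag z T A B V) {v : G} (hv : v ∈ V) (h : IsConj z v) :
    centralizer ({v} : Set G) = T :=
  (Subgroup.eq_of_le_of_card_ge (fun t ht => mem_centralizer_singleton_iff.2 (F.comm_V hv ht))
    (by rw [F.card_cent_of_conj h, F.cardT])).symm

/-- The conjugates of `z` in `A` and `B` lie in `V`, which consists of such conjugates. -/
structure Closed (F : Flag z T A B V) : Prop where
  hA : ∀ x ∈ A, IsConj z x → x ∈ V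
  hB : ∀ x ∈ B, IsConj z x → x ∈ V
  hV : ∀ v ∈ V, v ≠ 1 → IsConj z v

/-- The conjugates of `z` in `A` lie in `V`, and either the same holds for `B` or `B` is fused. -/
structure Half (F : Flag z T A B V) : Prop where
  hA : ∀ x ∈ A, IsConj z x → x ∈ V
  hV : ∀ v ∈ V, v ≠ 1 → IsConj z v
  hB : (∀ x ∈ B, IsConj z x → x ∈ V) ∨ (∀ x ∈ B, x ≠ 1 → IsConj z x)

variable {F : Flag z T A B V}

theorem Half.normalizer_le [Finite G] (h : Half F) :
    normalizer (A : Set G) ≤ normalizer (T : Set G) := fun r hr =>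
  F.mem_normalizer_T (h.hA _ ((mem_normalizer_iff.1 hr z).1 (F.hVA F.zV)) (isConj_iff.2 ⟨r, rfl⟩))

theorem Half.card_sylow [Finite G] (h : Half F) {u : G} (hu : u ∈ A) (huV : u ∉ V)
    (P : Sylow 2 ↥(centralizer ({u} : Set G))) : Nat.card P = 16 := by
  haveI : Fact (Nat.Prime 2) := ⟨Nat.prime_two⟩
  set H := centralizer ({u} : Set G)
  have hAH : A ≤ H := fun a ha => mem_centralizer_singleton_iff.2 (comm_of_sq F.eA ha hu)
  have hAc : Nat.card (A.subgroupOf H) = 16 := by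
    rw [Nat.card_congr (Subgroup.subgroupOfEquivOfLe hAH).toEquiv, F.cardA]
  obtain ⟨Q, hQ⟩ := (IsPGroup.of_card (p := 2) (n := 4) (hAc.trans (by norm_num))).exists_le_sylow
  suffices hQA : (Q : Subgroup ↥H) = A.subgroupOf H by
    exact ((Sylow.card_eq_multiplicity _).trans (Sylow.card_eq_multiplicity Q).symm).trans
      ((congrArg (fun K : Subgroup ↥H => Nat.card K) hQA).trans hAc)
  by_contra hne
  have hlt : (A.subgroupOf H).subgroupOf (Q : Subgroup ↥H) < ⊤ :=
    lt_top_iff_ne_top.2 fun e => hne (le_antisymm (subgroupOf_eq_top.1 e) hQ)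
  haveI : Group.IsNilpotent Q := Q.isPGroup'.isNilpotent
  obtain ⟨n, hnN, hnA⟩ := SetLike.exists_of_lt (normalizerCondition_of_isNilpotent _ hlt)
  have hn : ((n : ↥H) : G) ∈ normalizer (A : Set G) := by
    refine mem_normalizer_of_map_eq (Subgroup.eq_of_le_of_card_ge ?_ (by rw [card_map_conj]))
    rintro _ ⟨a, ha, rfl⟩
    exact mem_subgroupOf.1 (mem_subgroupOf.1
      ((mem_normalizer_iff.1 hnN ⟨⟨a, hAH ha⟩, hQ (mem_subgroupOf.2 ha)⟩).1
        (mem_subgroupOf.2 (mem_subgroupOf.2 ha))))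
  have h2 : ∃ k : ℕ, orderOf ((n : ↥H) : G) = 2 ^ k := by
    obtain ⟨k, hk⟩ := IsPGroup.iff_orderOf.1 Q.isPGroup' n
    exact ⟨k, by rw [Subgroup.orderOf_coe, Subgroup.orderOf_coe, hk]⟩
  exact hnA (mem_subgroupOf.2 (mem_subgroupOf.2 (F.selfA u hu huV _
    (F.mem_T_of_two (h.normalizer_le hn) h2) (mem_centralizer_singleton_iff.1 (n : ↥H).2))))

/-- Two elementary subgroups of order 16 in the centraliser of such an element are conjugate. -/
theorem Half.exists_conj [Finite G] (h : Half F) {u : G} (hu : u ∈ A) (huV : u ∉ V)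
    {E E' : Subgroup G} (hE : E ≤ centralizer ({u} : Set G)) (hE' : E' ≤ centralizer ({u} : Set G))
    (hc : Nat.card E = 16) (hc' : Nat.card E' = 16) :
    ∃ k : G, k * u = u * k ∧ E.map (MulAut.conj k).toMonoidHom = E' := by
  haveI : Fact (Nat.Prime 2) := ⟨Nat.prime_two⟩
  set H := centralizer ({u} : Set G)
  have hsyl : ∀ D : Subgroup G, D ≤ H → Nat.card D = 16 →
      ∃ P : Sylow 2 ↥H, (P : Subgroup ↥H) = D.subgroupOf H := by
    intro D hD hDc
    have hc2 : Nat.card (D.subgroupOf H) = 16 := by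
      rw [Nat.card_congr (Subgroup.subgroupOfEquivOfLe hD).toEquiv, hDc]
    obtain ⟨P, hP⟩ := (IsPGroup.of_card (p := 2) (n := 4) (hc2.trans (by norm_num))).exists_le_sylow
    exact ⟨P, (Subgroup.eq_of_le_of_card_ge hP (by rw [hc2, h.card_sylow hu huV P])).symm⟩
  obtain ⟨P, hP⟩ := hsyl E hE hc
  obtain ⟨P', hP'⟩ := hsyl E' hE' hc'
  obtain ⟨k, hk⟩ := MulAction.exists_smul_eq (↥H) P P'
  refine ⟨k, mem_centralizer_singleton_iff.1 k.2,
    Subgroup.eq_of_le_of_card_ge ?_ (by rw [card_map_conj, hc, hc'])⟩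
  rintro _ ⟨e, he, rfl⟩
  have hmem : k * ⟨e, hE he⟩ * k⁻¹ ∈ (P' : Subgroup ↥H) := by
    rw [← hk, Sylow.coe_subgroup_smul]
    exact ⟨⟨e, hE he⟩, hP.symm ▸ mem_subgroupOf.2 he, rfl⟩
  rw [hP'] at hmem
  exact mem_subgroupOf.1 hmem

theorem Half.conj_cases [Finite G] (h : Half F) {u g : G} (hu : u ∈ A) (huV : u ∉ V)
    (hgT : g * u * g⁻¹ ∈ T) :
    ∃ n ∈ normalizer (T : Set G), n * u * n⁻¹ = g * u * g⁻¹ := by
  have hu2 : g * u * g⁻¹ * (g * u * g⁻¹) = 1 := by
    rw [show g * u * g⁻¹ * (g * u * g⁻¹) = g * (u * u) * g⁻¹ by group, F.eA u hu, mul_one,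
      mul_inv_cancel]
  have hu1 : u ≠ 1 := fun e => huV (e ▸ one_mem V)
  have hnc : ¬ IsConj z u := fun e => huV (h.hA u hu e)
  have hnV : g * u * g⁻¹ ∉ V := fun hv => hnc ((h.hV _ hv (fun e => hu1 (by
    calc u = g⁻¹ * (g * u * g⁻¹) * g := by group
      _ = 1 := by rw [e]; group))).trans (isConj_iff.2 ⟨g, rfl⟩ : IsConj u _).symm)
  have himg : A.map (MulAut.conj g).toMonoidHom ≤ centralizer ({g * u * g⁻¹} : Set G) := by
    rintro _ ⟨a, ha, rfl⟩
    refine mem_centralizer_singleton_iff.2 ?_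
    show g * a * g⁻¹ * (g * u * g⁻¹) = g * u * g⁻¹ * (g * a * g⁻¹)
    rw [show g * a * g⁻¹ * (g * u * g⁻¹) = g * (a * u) * g⁻¹ by group, comm_of_sq F.eA ha hu]
    group
  have hcg : Nat.card (A.map (MulAut.conj g).toMonoidHom) = 16 := by rw [card_map_conj, F.cardA]
  have haux : ∀ k : G, k * (g * u * g⁻¹) = g * u * g⁻¹ * k →
      k * g * u * (k * g)⁻¹ = g * u * g⁻¹ := fun k hk => by
    calc k * g * u * (k * g)⁻¹ = k * (g * u * g⁻¹) * k⁻¹ := by group
      _ = g * u * g⁻¹ := by rw [hk, mul_inv_cancel_right]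
  rcases F.invol_cases hgT hu2 with hA' | hB'
  · obtain ⟨k, hk, hkA⟩ := h.exists_conj hA' hnV himg
      (fun a ha => mem_centralizer_singleton_iff.2 (comm_of_sq F.eA ha hA')) hcg F.cardA
    refine ⟨k * g, h.normalizer_le (mem_normalizer_of_map_eq ?_), haux k hk⟩
    refine Eq.trans ?_ hkA
    rw [Subgroup.map_map]
    congr 1
    ext x; simp [mul_assoc]
  · exfalso
    rcases h.hB with hBV | hBall
    · have h' : Half F.symm := ⟨hBV, h.hV, Or.inl h.hA⟩
      obtain ⟨k, hk, hkA⟩ := h'.exists_conj hB' hnV himg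
        (fun b hb => mem_centralizer_singleton_iff.2 (comm_of_sq F.eB hb hB')) hcg F.cardB
      have hcomp : A.map (MulAut.conj (k * g)).toMonoidHom = B := by
        refine Eq.trans ?_ hkA
        rw [Subgroup.map_map]
        congr 1
        ext x; simp [mul_assoc]
      have hzB : k * g * z * (k * g)⁻¹ ∈ B := hcomp ▸ ⟨z, F.hVA F.zV, rfl⟩
      have hn := F.mem_normalizer_T (hBV _ hzB (isConj_iff.2 ⟨k * g, rfl⟩))
      exact F.A_ne_B ((map_eq_of_mem_normalizer (F.normalizer_le hn)).symm.trans hcomp)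
    · exact hnc ((hBall _ hB' fun e => hnV (e ▸ one_mem V)).trans
        (isConj_iff.2 ⟨g, rfl⟩ : IsConj u _).symm)

variable [Finite G] [IsSimpleGroup G]

/-- Such an element is moved to another coset of `V` by the normaliser of `T`. -/
theorem Half.exists_moved (hG : ¬ IsMulCommutative G) (h : Half F) {u : G} (hu : u ∈ A)
    (huV : u ∉ V) :
    ∃ n ∈ normalizer (T : Set G), n * u * n⁻¹ ∈ A ∧ n * u * n⁻¹ ∉ V ∧ u * (n * u * n⁻¹) ∉ V := by
  classical
  -- a third coset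
  obtain ⟨a', ha', ha'1, ha'2⟩ : ∃ a' ∈ A, a' ∉ V ∧ u * a' ∉ V := by
    by_contra hno
    push Not at hno
    have hsub : (A : Set G) ⊆ (V : Set G) ∪ (fun v => u * v) '' (V : Set G) := fun a ha => by
      by_cases haV : a ∈ V
      · exact Or.inl haV
      · exact Or.inr ⟨u * a, hno a ha haV, by show u * (u * a) = a; rw [← mul_assoc, F.eA u hu, one_mul]⟩
    have := (Set.ncard_le_ncard hsub (Set.toFinite _)).trans (Set.ncard_union_le _ _)
    rw [Set.ncard_image_of_injective _ (mul_right_injective u), ← Nat.card_coe_set_eq,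
      ← Nat.card_coe_set_eq, SetLike.coe_sort_coe, SetLike.coe_sort_coe, F.cardA, F.cardV] at this
    norm_num at this
  let A' : Subgroup G :=
    { carrier := {x | x ∈ A ∧ (x ∈ V ∨ a' * x ∈ V)}
      one_mem' := ⟨one_mem _, Or.inl (one_mem _)⟩
      mul_mem' := by
        rintro x y ⟨hx, hx'⟩ ⟨hy, hy'⟩
        refine ⟨mul_mem hx hy, ?_⟩
        rcases hx' with hx' | hx' <;> rcases hy' with hy' | hy'
        · exact Or.inl (mul_mem hx' hy')
        · refine Or.inr ?_
          rw [← mul_assoc, comm_of_sq F.eA ha' hx, mul_assoc]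
          exact mul_mem hx' hy'
        · exact Or.inr (by rw [← mul_assoc]; exact mul_mem hx' hy')
        · refine Or.inl ?_
          rw [show x * y = a' * x * (a' * y) by
            rw [show a' * x * (a' * y) = a' * (x * a') * y by group, comm_of_sq F.eA hx ha',
              ← mul_assoc a', F.eA a' ha', one_mul]]
          exact mul_mem hx' hy'
      inv_mem' := fun {x} hx => by rw [inv_eq_of_mul_eq_one_right (F.eA x hx.1)]; exact hx }
  have hA'mem : ∀ x, x ∈ A' ↔ x ∈ A ∧ (x ∈ V ∨ a' * x ∈ V) := fun x => Iff.rfl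
  have hA'V : ∀ a v : G, v ∈ V → a ∈ A → (a * v ∈ A' ↔ a ∈ A') := fun a v hv ha =>
    ⟨fun hh => by simpa using mul_mem hh (show v⁻¹ ∈ A' from
      ⟨inv_mem (F.hVA hv), Or.inl (inv_mem hv)⟩),
     fun hh => mul_mem hh ⟨F.hVA hv, Or.inl hv⟩⟩
  have hbconj : ∀ a ∈ A', ∀ b ∈ B, b * a * b⁻¹ ∈ A' := fun a ha b hb => by
    rw [show b * a * b⁻¹ = a * (a⁻¹ * (b * a * b⁻¹)) by group]
    exact (hA'V a _ (F.commutator_mem ha.1 hb) ha.1).2 ha
  let M : Subgroup G :=
    { carrier := {t | ∃ a ∈ A', ∃ b ∈ B, t = a * b}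
      one_mem' := ⟨1, one_mem _, 1, one_mem _, (one_mul 1).symm⟩
      mul_mem' := by
        rintro _ _ ⟨a, ha, b, hb, rfl⟩ ⟨a₁, ha₁, b₁, hb₁, rfl⟩
        exact ⟨a * (b * a₁ * b⁻¹), mul_mem ha (hbconj a₁ ha₁ b hb), b * b₁, mul_mem hb hb₁, by group⟩
      inv_mem' := by
        rintro _ ⟨a, ha, b, hb, rfl⟩
        exact ⟨b⁻¹ * a⁻¹ * b⁻¹⁻¹, hbconj _ (inv_mem ha) _ (inv_mem hb), b⁻¹, inv_mem hb, by group⟩ }
  have hMmem : ∀ a ∈ A, ∀ b ∈ B, (a * b ∈ M ↔ a ∈ A') := by
    intro a ha b hb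
    refine ⟨?_, fun h' => ⟨a, h', b, hb, rfl⟩⟩
    rintro ⟨a₁, ha₁, b₁, hb₁, e⟩
    have hv : a₁⁻¹ * a ∈ V := F.mem_V (mul_mem (inv_mem ha₁.1) ha) (by
      rw [show a₁⁻¹ * a = b₁ * b⁻¹ by
        calc a₁⁻¹ * a = a₁⁻¹ * (a * b) * b⁻¹ := by group
          _ = b₁ * b⁻¹ := by rw [e]; group]
      exact mul_mem hb₁ (inv_mem hb))
    simpa using (hA'V a₁ _ hv ha₁.1).2 ha₁
  have hdec : ∀ a ∈ A, (a * u ∈ A' ↔ a ∉ A') := by
    intro a ha
    let f : Bool × Bool × ↥V → ↥A := fun p => ⟨(if p.1 then a' else 1) * (if p.2.1 then u else 1) *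
      (p.2.2 : G), mul_mem (mul_mem (by split <;> simp [ha', one_mem])
        (by split <;> simp [hu, one_mem])) (F.hVA p.2.2.2)⟩
    have hV : ∀ {x y : G}, x ∈ V → y ∈ V → x * y⁻¹ ∈ V := fun hx hy => mul_mem hx (inv_mem hy)
    have hua : a' * u = u * a' := comm_of_sq F.eA ha' hu
    have hf : Function.Injective f := by
      rintro ⟨i, j, v⟩ ⟨i', j', w⟩ e
      have e' : (if i then a' else 1) * (if j then u else 1) * (v : G) =
          (if i' then a' else 1) * (if j' then u else 1) * (w : G) := congrArg Subtype.val e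
      have hvw : ((if i' then a' else 1) * (if j' then u else 1))⁻¹ *
          ((if i then a' else 1) * (if j then u else 1)) ∈ V := by
        rw [show ((if i' then a' else 1) * (if j' then u else 1))⁻¹ *
          ((if i then a' else 1) * (if j then u else 1)) = (w : G) * (v : G)⁻¹ by
            rw [inv_mul_eq_iff_eq_mul, ← mul_assoc, ← e', mul_inv_cancel_right]]
        exact hV w.2 v.2
      have ia : a'⁻¹ = a' := inv_eq_of_mul_eq_one_right (F.eA a' ha')
      have iu : u⁻¹ = u := inv_eq_of_mul_eq_one_right (F.eA u hu)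
      have h1 : ∀ x : G, a' * (a' * x) = x := fun x => by rw [← mul_assoc, F.eA a' ha', one_mul]
      have h2 : ∀ x : G, u * (u * x) = x := fun x => by rw [← mul_assoc, F.eA u hu, one_mul]
      have h3 : ∀ x : G, a' * (u * x) = u * (a' * x) := fun x => by rw [← mul_assoc, hua, mul_assoc]
      have hij : i = i' ∧ j = j' := by
        cases i <;> cases i' <;> cases j <;> cases j' <;>
          simp [ia, iu, mul_inv_rev, mul_assoc, h1, h2, h3, hua, F.eA a' ha', F.eA u hu] at hvw ⊢ <;>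
          first
            | exact absurd hvw ha'1 | exact absurd hvw huV | exact absurd hvw ha'2
      obtain ⟨rfl, rfl⟩ := hij
      exact Prod.ext rfl (Prod.ext rfl (Subtype.ext (mul_left_cancel e')))
    have hb := (Nat.bijective_iff_injective_and_card f).2 ⟨hf, by
      rw [Nat.card_prod, Nat.card_prod, F.cardA, F.cardV, Nat.card_eq_fintype_card, Fintype.card_bool]⟩
    obtain ⟨⟨i, j, v⟩, e⟩ := hb.2 ⟨a, ha⟩
    have e' : a = (if i then a' else 1) * (if j then u else 1) * (v : G) :=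
      (congrArg Subtype.val e).symm
    have ha'A : a' ∈ A' := ⟨ha', Or.inr (by rw [F.eA a' ha']; exact one_mem V)⟩
    have huA : u ∉ A' := fun hh => hh.2.elim huV (fun h' => ha'2 (hua ▸ h'))
    have hcase : ∀ x ∈ A, ((x * (v : G)) ∈ A' ↔ x ∈ A') := fun x hx => hA'V x v v.2 hx
    cases i <;> cases j <;> simp only [if_true, if_false, Bool.false_eq_true, one_mul, mul_one] at e'
    · subst e'
      have h1 : ((v : G)) ∈ A' := ⟨F.hVA v.2, Or.inl v.2⟩
      exact iff_of_false (fun hh => huA (by simpa using mul_mem (inv_mem h1) hh)) (fun hh => hh h1)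
    · subst e'
      refine iff_of_true ?_ (fun hh => huA ((hcase u hu).1 hh))
      rw [mul_assoc, comm_of_sq F.eA (F.hVA v.2) hu, ← mul_assoc, F.eA u hu, one_mul]
      exact ⟨F.hVA v.2, Or.inl v.2⟩
    · subst e'
      refine iff_of_false (fun hh => huA ?_) (fun hh => hh ((hcase a' ha').2 ha'A))
      simpa [mul_assoc] using mul_mem (inv_mem ((hcase a' ha').2 ha'A)) hh
    · subst e'
      refine iff_of_true ?_ (fun hh => huA ?_)
      · rw [show a' * u * (v : G) * u = a' * ((u * u) * v) by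
          rw [show a' * u * (v : G) * u = a' * u * ((v : G) * u) by group,
            comm_of_sq F.eA (F.hVA v.2) hu]; group, F.eA u hu, one_mul]
        exact (hcase a' ha').2 ha'A
      · simpa using mul_mem (inv_mem ha'A) ((hcase _ (mul_mem ha' hu)).1 hh)
  have hMT : M ≤ T := by
    rintro _ ⟨a, ha, b, hb, rfl⟩
    exact mul_mem (F.hA ha.1) (F.hB hb)
  have hidx : M.relIndex T = 2 := by
    show (M.subgroupOf T).index = 2
    rw [Subgroup.index_eq_two_iff]
    refine ⟨⟨u, F.hA hu⟩, fun t => ?_⟩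
    obtain ⟨a, ha, b, hb, he⟩ := F.exists_mul t.2
    rw [mem_subgroupOf, mem_subgroupOf, Subgroup.coe_mul, he, hMmem a ha b hb,
      show a * b * u = a * (b * u * b⁻¹) * b by group,
      hMmem _ (mul_mem ha (F.nA b (F.hB hb) u hu)) b hb,
      show a * (b * u * b⁻¹) = a * u * (u⁻¹ * (b * u * b⁻¹)) by group,
      hA'V _ _ (F.commutator_mem hu hb) (mul_mem ha hu), hdec a ha]
    by_cases haA' : a ∈ A'
    · exact Or.inr ⟨haA', not_not_intro haA'⟩
    · exact Or.inl ⟨haA', haA'⟩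
  obtain ⟨P, hP⟩ := F.exists_sylow
  rcases CfsgLib.Transfer.thompson_transfer_involution P (hP.symm ▸ hMT)
      (hP.symm ▸ hidx) (by rw [pow_two, F.eA u hu]) (hP.symm ▸ F.hA hu) with ⟨N, hN, hN2, -⟩ | ⟨g, hg⟩
  · exact absurd hN2 (no_index_two hG hN)
  obtain ⟨n, hn, hne⟩ := h.conj_cases hu huV (hMT hg)
  have hA2 : n * u * n⁻¹ ∈ A := (mem_normalizer_iff.1 (F.normalizer_le hn) u).1 hu
  have hV2 : n * u * n⁻¹ ∉ V := fun hv => huV (by
    simpa [mul_assoc] using F.conj_V_mem (inv_mem hn) hv)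
  refine ⟨n, hn, hA2, hV2, fun hmem => ?_⟩
  have h1 : n * u * n⁻¹ * 1 ∈ M := by rw [mul_one, hne]; exact hg
  rw [hMmem _ hA2 1 (one_mem B)] at h1
  refine (?_ : ¬ u ∈ A') ?_
  · exact fun hh => hh.2.elim huV (fun h' => ha'2 (comm_of_sq F.eA ha' hu ▸ h'))
  · have hv : (u * (n * u * n⁻¹)) ∈ A' := ⟨mul_mem hu hA2, Or.inl hmem⟩
    simpa [mul_assoc] using mul_mem hv (inv_mem h1)

/-- The centraliser of such an element is `A`. -/
theorem Half.centralizer_eq (hG : ¬ IsMulCommutative G) (h : Half F) {u : G} (hu : u ∈ A)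
    (huV : u ∉ V) : centralizer ({u} : Set G) = A := by
  classical
  haveI : Fact (Nat.Prime 2) := ⟨Nat.prime_two⟩
  set H := centralizer ({u} : Set G)
  have hAH : A ≤ H := fun a ha => mem_centralizer_singleton_iff.2 (comm_of_sq F.eA ha hu)
  set N := normalizer (T : Set G)
  have hNT : Nat.card ↥N ≤ 192 := by
    rw [← F.card_normalizer_T]
    rcases F.card_conj_V with e | e <;> omega
  -- the stabiliser in the normaliser of `T`
  have hNH : N ⊓ H = A := by
    obtain ⟨n, hn, hn1, hn2, hn3⟩ := h.exists_moved hG hu huV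
    have horb := orbit_card N u
    have h8 : 8 ≤ {y | ∃ m ∈ N, m * u * m⁻¹ = y}.ncard := by
      have hsub : (fun v => u * v) '' (V : Set G) ∪ (fun v => n * u * n⁻¹ * v) '' (V : Set G) ⊆
          {y | ∃ m ∈ N, m * u * m⁻¹ = y} := by
        rintro y (⟨v, hv, rfl⟩ | ⟨v, hv, rfl⟩)
        · obtain ⟨b, hb, e⟩ := F.exists_conj_coset hu huV hv
          exact ⟨b, Subgroup.le_normalizer (F.hB hb), e⟩
        · obtain ⟨b, hb, e⟩ := F.exists_conj_coset hn1 hn2 hv
          exact ⟨b * n, mul_mem (Subgroup.le_normalizer (F.hB hb)) hn, by show _ = n * u * n⁻¹ * v; rw [← e]; group⟩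
      refine le_trans (le_of_eq ?_) (Set.ncard_le_ncard hsub (Set.toFinite _))
      rw [Set.ncard_union_eq (Set.disjoint_left.2 ?_) (Set.toFinite _) (Set.toFinite _),
        Set.ncard_image_of_injective _ (mul_right_injective _),
        Set.ncard_image_of_injective _ (mul_right_injective _), ← Nat.card_coe_set_eq,
        SetLike.coe_sort_coe, F.cardV]
      rintro y ⟨v, hv, rfl⟩ ⟨w, hw, e⟩
      refine hn3 ?_
      have e' : n * u * n⁻¹ = u * (v * w⁻¹) := by
        rw [← mul_assoc]; exact eq_mul_inv_of_mul_eq e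
      rw [e', ← mul_assoc, F.eA u hu, one_mul]
      exact mul_mem hv (inv_mem hw)
    have hAN : A ≤ N ⊓ H := le_inf (F.hA.trans Subgroup.le_normalizer) hAH
    have hd : 16 ∣ Nat.card ↥(N ⊓ H) := F.cardA ▸ Subgroup.card_dvd_of_le hAN
    refine (Subgroup.eq_of_le_of_card_ge hAN ?_).symm
    rw [F.cardA]
    obtain ⟨k, hk⟩ := hd
    have : {y | ∃ m ∈ N, m * u * m⁻¹ = y}.ncard * Nat.card ↥(N ⊓ H) = Nat.card ↥N := horb
    rw [hk] at this ⊢
    have := Nat.mul_le_mul h8 (le_refl (16 * k))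
    omega
  -- Burnside
  obtain ⟨P, hP⟩ : ∃ P : Sylow 2 ↥H, (P : Subgroup ↥H) = A.subgroupOf H := by
    have hc2 : Nat.card (A.subgroupOf H) = 16 := by
      rw [Nat.card_congr (Subgroup.subgroupOfEquivOfLe hAH).toEquiv, F.cardA]
    obtain ⟨P, hP⟩ := (IsPGroup.of_card (p := 2) (n := 4) (hc2.trans (by norm_num))).exists_le_sylow
    exact ⟨P, (Subgroup.eq_of_le_of_card_ge hP (by rw [hc2, h.card_sylow hu huV P])).symm⟩
  obtain ⟨Q, O, hOn, hcompl⟩ := CfsgLib.Transfer.hasNormalPComplement_of_normalizer_le_centralizer P (by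
    intro r hr
    have hr' : (r : G) ∈ normalizer (A : Set G) := by
      refine mem_normalizer_of_map_eq (Subgroup.eq_of_le_of_card_ge ?_ (by rw [card_map_conj]))
      rintro _ ⟨a, ha, rfl⟩
      have := (mem_normalizer_iff.1 hr ⟨a, hAH ha⟩).1 (hP.symm ▸ mem_subgroupOf.2 ha)
      rw [hP] at this
      exact mem_subgroupOf.1 this
    have hrA : (r : G) ∈ A := hNH ▸ mem_inf.2 ⟨h.normalizer_le hr', r.2⟩
    refine mem_centralizer_iff.2 fun p hp => Subtype.ext ?_
    rw [hP] at hp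
    exact comm_of_sq F.eA (mem_subgroupOf.1 hp) hrA)
  have hQc : Nat.card Q = 16 := h.card_sylow hu huV Q
  have hmul : Nat.card O * 16 = Nat.card ↥H := hQc ▸ hcompl.card_mul
  have hodd : ¬ 2 ∣ Nat.card O := fun hd => by
    obtain ⟨c, hc⟩ := hd
    have h32 : 2 ^ 5 ∣ Nat.card ↥H := ⟨c, by rw [← hmul, hc]; ring⟩
    obtain ⟨R, hR⟩ := Sylow.exists_subgroup_card_pow_prime 2 h32
    obtain ⟨R', hR'⟩ := (IsPGroup.of_card (p := 2) hR).exists_le_sylow
    have := Subgroup.card_le_of_le hR'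
    rw [hR, h.card_sylow hu huV R'] at this
    norm_num at this
  have hcop : ∀ (v : G) (hv : v ∈ V), v ≠ 1 → ∀ y : ↥H, y ∈ O →
      v * (y : G) = (y : G) * v → y = 1 := by
    intro v hv hv1 y hy hc
    have h1 : orderOf (y : G) ∣ 64 := by
      rw [← F.card_cent_of_conj (h.hV v hv hv1)]
      exact Subgroup.orderOf_dvd_natCard _ (mem_centralizer_singleton_iff.2 hc.symm)
    have h2 : orderOf (y : G) ∣ Nat.card O := by
      rw [Subgroup.orderOf_coe]; exact Subgroup.orderOf_dvd_natCard _ hy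
    have hcp : Nat.Coprime 64 (Nat.card O) := by
      rw [show (64 : ℕ) = 2 ^ 6 from rfl]
      exact Nat.Coprime.pow_left _ ((Nat.Prime.coprime_iff_not_dvd Nat.prime_two).2 hodd)
    exact Subtype.ext (orderOf_eq_one_iff.1 (Nat.eq_one_of_dvd_one (hcp ▸ Nat.dvd_gcd h1 h2)))
  -- each element of `V` inverts the complement
  have hinv : ∀ (v : G) (hv : v ∈ V), v ≠ 1 → ∀ y : ↥H, y ∈ O →
      (⟨v, hAH (F.hVA hv)⟩ : ↥H) * y * (⟨v, hAH (F.hVA hv)⟩ : ↥H)⁻¹ = y⁻¹ := by
    intro v hv hv1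
    set w : ↥H := ⟨v, hAH (F.hVA hv)⟩
    have hw2 : w * w = 1 := Subtype.ext (F.eA v (F.hVA hv))
    have hwi : w⁻¹ = w := inv_eq_of_mul_eq_one_right hw2
    let f : ↥O → ↥O := fun x => ⟨(x : ↥H)⁻¹ * (w * x * w⁻¹),
      mul_mem (inv_mem x.2) (hOn.conj_mem _ x.2 w)⟩
    have hf : Function.Injective f := by
      intro x x' e
      have e' : (x : ↥H)⁻¹ * (w * x * w⁻¹) = (x' : ↥H)⁻¹ * (w * x' * w⁻¹) := congrArg Subtype.val e
      have hfix := inv_conj_fix e'
      have h1 := hcop v hv hv1 _ (mul_mem x'.2 (inv_mem x.2))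
        (congrArg Subtype.val (eq_mul_inv_iff_mul_eq.1 hfix)).symm
      exact Subtype.ext (mul_inv_eq_one.1 h1).symm
    intro y hy
    obtain ⟨x, hx⟩ := (Finite.injective_iff_surjective.1 hf) ⟨y, hy⟩
    rw [show y = (x : ↥H)⁻¹ * (w * x * w⁻¹) from (congrArg Subtype.val hx).symm]
    exact inv_conj_inverts hw2
  obtain ⟨v, hv, hv1, hvz⟩ : ∃ v ∈ V, v ≠ 1 ∧ v ≠ z := by
    by_contra hno
    push Not at hno
    have hsub : (V : Set G) ⊆ {1, z} := fun x hx => by
      by_cases e : x = 1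
      · exact Or.inl e
      · exact Or.inr (hno x hx e)
    have := (Set.ncard_le_ncard hsub (Set.toFinite _)).trans (Set.ncard_insert_le _ _)
    rw [Set.ncard_singleton, ← Nat.card_coe_set_eq, SetLike.coe_sort_coe, F.cardV] at this
    norm_num at this
  have hObot : O = ⊥ := by
    refine (Subgroup.eq_bot_iff_forall _).2 fun y hy => ?_
    have hzv : z * v ≠ 1 := fun e => hvz (mul_left_cancel (e.trans F.z_sq.symm))
    · have h1 := hinv z F.zV F.z_ne y hy
      have h3 := hinv (z * v) (mul_mem F.zV hv) hzv y hy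
      set a : ↥H := ⟨z, hAH (F.hVA F.zV)⟩
      set b : ↥H := ⟨v, hAH (F.hVA hv)⟩
      have hab : (⟨z * v, hAH (F.hVA (mul_mem F.zV hv))⟩ : ↥H) = a * b := rfl
      rw [hab] at h3
      have hb := hinv v hv hv1 y hy
      have h4 : a * b * y * (a * b)⁻¹ = y := by
        calc a * b * y * (a * b)⁻¹ = a * (b * y * b⁻¹) * a⁻¹ := by group
          _ = (a * y * a⁻¹)⁻¹ := by rw [hb]; group
          _ = y := by rw [h1, inv_inv]
      have hy2 : y ^ 2 = 1 := by
        rw [pow_two]; exact mul_eq_one_iff_eq_inv.2 (h4.symm.trans h3)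
      have hd : orderOf y ∣ Nat.card O := Subgroup.orderOf_dvd_natCard _ hy
      rcases (Nat.dvd_prime Nat.prime_two).1 (orderOf_dvd_of_pow_eq_one hy2) with e | e
      · exact orderOf_eq_one_iff.1 e
      · exact absurd (e ▸ hd) hodd
  refine (Subgroup.eq_of_le_of_card_ge hAH ?_).symm
  rw [← hmul, hObot, Subgroup.card_bot, F.cardA]

/-- Conjugates of `z` in `A` are not confined to `V`. -/
theorem Half.false (hG : ¬ IsMulCommutative G) (h : Half F) : False := by
  obtain ⟨u, hu, huV⟩ := F.exists_A_not_V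
  have hu2 : orderOf u = 2 :=
    orderOf_eq_prime (by rw [pow_two, F.eA u hu]) fun e => huV (e ▸ one_mem V)
  have hall : ∀ y : G, IsConj z y → y ∈ T := by
    intro y hy
    by_cases hc : y * u = u * y
    · have : y ∈ centralizer ({u} : Set G) := mem_centralizer_singleton_iff.2 hc
      rw [h.centralizer_eq hG hu huV] at this
      exact F.hA this
    have hy2 : orderOf y = 2 := by rw [CfsgLib.Invol.orderOf_eq_of_isConj hy, F.hz]
    obtain ⟨j, hj, hju, hjy⟩ := CfsgLib.Invol.exists_commute_both hu2 hy2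
      (CfsgLib.Invol.even_of_not_isConj hu2 hy2 fun e => huV (h.hA u hu (hy.trans e.symm)))
    have hjA : j ∈ A := by
      rw [← h.centralizer_eq hG hu huV]
      exact mem_centralizer_singleton_iff.2 hju.eq
    have hyj : y ∈ centralizer ({j} : Set G) := mem_centralizer_singleton_iff.2 hjy.symm.eq
    by_cases hjV : j ∈ V
    · rwa [F.cent_eq_of_mem_V hjV (h.hV j hjV fun e => by simp [e] at hj)] at hyj
    · rw [h.centralizer_eq hG hjA hjV] at hyj
      exact F.hA hyj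
  have htop : Subgroup.normalClosure ({z} : Set G) = ⊤ :=
    (Subgroup.normalClosure_normal.eq_bot_or_eq_top).resolve_left fun e =>
      F.z_ne (mem_bot.1 (e ▸ Subgroup.subset_normalClosure (Set.mem_singleton z)))
  have hle : (⊤ : Subgroup G) ≤ T := htop ▸ (Subgroup.closure_le _).2 fun y hy => by
    rw [Group.mem_conjugatesOfSet_iff] at hy
    obtain ⟨z', hz', hzy⟩ := hy
    exact hall y ((Set.mem_singleton_iff.1 hz') ▸ hzy)
  have hzc : z ∈ center G := mem_center_iff.2 fun g => F.mem_T.1 (hle (mem_top g))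
  rcases (inferInstance : (center G).Normal).eq_bot_or_eq_top with e | e
  · exact F.z_ne (mem_bot.1 (e ▸ hzc))
  · exact hG ⟨⟨fun a b => (mem_center_iff.1 (e ▸ mem_top a) b).symm⟩⟩

/-- All involutions of `A` are conjugate to `z`. -/
theorem all_A (hG : ¬ IsMulCommutative G) (F : Flag z T A B V) :
    ∀ x ∈ A, x ≠ 1 → IsConj z x := by
  refine F.orbit_cases.resolve_left fun hA => ?_
  rcases F.card_conj_V with h1 | h3
  · rcases F.symm.orbit_cases with hB | hB
    · refine not_isolated_of_simple hG (z := z) ⟨F.hz, fun g hg => ?_⟩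
      have hsq : g * z * g⁻¹ * (g * z * g⁻¹) = 1 := by
        rw [show g * z * g⁻¹ * (g * z * g⁻¹) = g * (z * z) * g⁻¹ by group, F.z_sq, mul_one,
          mul_inv_cancel]
      have hc : IsConj z (g * z * g⁻¹) := isConj_iff.2 ⟨g, rfl⟩
      have hgV : g * z * g⁻¹ ∈ V :=
        (F.invol_cases (F.mem_T.2 hg.eq.symm) hsq).elim (hA _ · hc) (hB _ · hc)
      obtain ⟨y, hy⟩ := Set.ncard_eq_one.1 h1
      have h1' : g * z * g⁻¹ ∈ {x : G | x ∈ V ∧ IsConj z x} := ⟨hgV, hc⟩
      have h2' : z ∈ {x : G | x ∈ V ∧ IsConj z x} := ⟨F.zV, IsConj.refl z⟩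
      rw [hy, Set.mem_singleton_iff] at h1' h2'
      rw [h1', h2']
    · have hsub : ((V : Set G) \ {1}) ⊆ {x : G | x ∈ V ∧ IsConj z x} :=
        fun x hx => ⟨hx.1, hB x (F.hVB hx.1) hx.2⟩
      have := Set.ncard_le_ncard hsub (Set.toFinite _)
      rw [h1, Set.ncard_sdiff_singleton_of_mem (one_mem V), ← Nat.card_coe_set_eq,
        SetLike.coe_sort_coe, F.cardV] at this
      norm_num at this
  · have hV : ∀ v ∈ V, v ≠ 1 → IsConj z v := by
      intro v hv hv1
      have hsub : {x : G | x ∈ V ∧ IsConj z x} ⊆ (V : Set G) \ {1} :=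
        fun x hx => ⟨hx.1, fun e => F.z_ne (isConj_one_left.1 (e ▸ hx.2))⟩
      have := Set.eq_of_subset_of_ncard_le hsub (by
        rw [h3, Set.ncard_sdiff_singleton_of_mem (one_mem V), ← Nat.card_coe_set_eq,
          SetLike.coe_sort_coe, F.cardV])
      exact ((this.symm ▸ ⟨hv, hv1⟩ : v ∈ {x : G | x ∈ V ∧ IsConj z x})).2
    exact (Half.mk (F := F) hA hV F.symm.orbit_cases).false hG

theorem all_B (hG : ¬ IsMulCommutative G) (F : Flag z T A B V) :
    ∀ x ∈ B, x ≠ 1 → IsConj z x := F.symm.all_A hG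

theorem one_class (hG : ¬ IsMulCommutative G) (F : Flag z T A B V) {x : G} (hx : orderOf x = 2) :
    IsConj z x := by
  haveI : Fact (Nat.Prime 2) := ⟨Nat.prime_two⟩
  obtain ⟨P, hP⟩ := F.exists_sylow
  obtain ⟨Q, hQ⟩ :=
    (IsPGroup.of_card (p := 2) (n := 1) (G := zpowers x) (by rw [Nat.card_zpowers, hx, pow_one])).exists_le_sylow
  obtain ⟨g, hg⟩ := MulAction.exists_smul_eq G Q P
  have hmem : g * x * g⁻¹ ∈ T := by
    rw [← hP, ← hg, Sylow.coe_subgroup_smul]
    exact ⟨x, hQ (mem_zpowers x), rfl⟩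
  have hsq : g * x * g⁻¹ * (g * x * g⁻¹) = 1 := by
    rw [← pow_two]
    exact orderOf_dvd_iff_pow_eq_one.1 (by
      rw [show g * x * g⁻¹ = MulAut.conj g x from rfl, MulEquiv.orderOf_eq, hx])
  have hne : g * x * g⁻¹ ≠ 1 := fun e => by
    have := MulEquiv.orderOf_eq (MulAut.conj g) x
    rw [show MulAut.conj g x = g * x * g⁻¹ from rfl, e, hx, orderOf_one] at this
    norm_num at this
  exact ((F.invol_cases hmem hsq).elim (F.all_A hG _ · hne) (F.all_B hG _ · hne)).trans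
    (isConj_iff.2 ⟨g, rfl⟩ : IsConj x _).symm

end Flag

end CfsgLib.InvChar.LThreeFour
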