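import Cfsg.Agent.Lib.InvChar.LThreeFour.Order
import Cfsg.Agent.Lib.Recog.LThreeFourPlane.Model

/-!
Identification of a simple group with such an involution centraliser.
-/

set_option autoImplicit false

namespace CfsgLib.InvChar.LThreeFour

open Subgroup

universe u v

variable {G : Type u} [Group G] [Finite G] [IsSimpleGroup G] {z : G} {T A B V : Subgroup G}

theorem Flag.cfg (hG : ¬ IsMulCommutative G) (F : Flag z T A B V) :
    CfsgLib.Recog.LThreeFour.Cfg T A B where
  cardT := F.cardT
  cardI := F.cardA
  cardE := F.cardB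
  I_le := F.hA
  E_le := F.hB
  sqI := F.eA
  sqE := F.eB
  cardZ := by rw [F.inter, F.cardV]
  invols := fun _ hx h2 => F.invol_cases hx h2
  cen := fun v hv hv1 => by
    rw [F.inter] at hv
    exact F.cent_eq_of_mem_V hv (F.all_A hG v (F.hVA hv) hv1)
  classes := (F.card_eq hG).2

/-- Such a group is the three-dimensional projective special linear group over four elements. -/
theorem Flag.equiv_psl (hG : ¬ IsMulCommutative G) (Φ : Flag z T A B V) {F : Type v} [Field F]
    [Fintype F] [DecidableEq F] (hF : Fintype.card F = 4) :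
    Nonempty (G ≃* Matrix.ProjectiveSpecialLinearGroup (Fin 3) F) :=
  (Φ.cfg hG).equiv_psl (Φ.card_eq hG).1 hF

end CfsgLib.InvChar.LThreeFour
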