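import Cfsg.Agent.Lib.InvChar.LThreeFour.Basic
import Mathlib.GroupTheory.PGroup
import Mathlib.GroupTheory.Perm.Basic

/-!
The conjugates of `z` in an elementary abelian subgroup `A` of order 16 of its centraliser are
either in the centre of the centraliser or are all fifteen involutions of `A`.
-/

set_option autoImplicit false

namespace CfsgLib.InvChar.LThreeFour

open Subgroup

universe u

variable {G : Type u} [Group G]

/-- Orbit and stabiliser for conjugation by a subgroup. -/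
theorem orbit_card [Finite G] (S : Subgroup G) (x : G) :
    {y : G | ∃ n ∈ S, n * x * n⁻¹ = y}.ncard * Nat.card ↥(S ⊓ centralizer ({x} : Set G)) =
      Nat.card S := by
  set K := (centralizer ({x} : Set G)).subgroupOf S with hK
  have hiff : ∀ m n : ↥S, m⁻¹ * n ∈ K ↔ (m : G) * x * (m : G)⁻¹ = n * x * (n : G)⁻¹ := by
    intro m n
    rw [hK, mem_subgroupOf, mem_centralizer_singleton_iff]
    simp only [Subgroup.coe_mul, Subgroup.coe_inv]
    constructor
    · intro h
      calc (m : G) * x * (m : G)⁻¹ = m * (x * ((m : G)⁻¹ * n)) * (n : G)⁻¹ := by group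
        _ = m * ((m : G)⁻¹ * n * x) * (n : G)⁻¹ := by rw [h]
        _ = n * x * (n : G)⁻¹ := by group
    · intro h
      calc (m : G)⁻¹ * n * x = (m : G)⁻¹ * (n * x * (n : G)⁻¹) * n := by group
        _ = (m : G)⁻¹ * (m * x * (m : G)⁻¹) * n := by rw [h]
        _ = x * ((m : G)⁻¹ * n) := by group
  let f : ↥S ⧸ K → {y : G | ∃ n ∈ S, n * x * n⁻¹ = y} :=
    Quotient.lift (fun m => ⟨(m : G) * x * (m : G)⁻¹, m, m.2, rfl⟩) fun m n h =>
      Subtype.ext ((hiff m n).1 (QuotientGroup.leftRel_apply.1 h))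
  have hf : Function.Bijective f := by
    refine ⟨fun p q h => ?_, ?_⟩
    · induction p using Quotient.inductionOn
      induction q using Quotient.inductionOn
      exact Quotient.sound (QuotientGroup.leftRel_apply.2 ((hiff _ _).2 (congrArg Subtype.val h)))
    · rintro ⟨y, n, hn, rfl⟩
      exact ⟨Quotient.mk _ ⟨n, hn⟩, rfl⟩
  rw [← Nat.card_coe_set_eq, ← Nat.card_congr (Equiv.ofBijective f hf), ← Subgroup.index_eq_card,
    inf_comm, ← Nat.card_congr (Subgroup.subgroupOfEquivOfLe (inf_le_right :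
      centralizer ({x} : Set G) ⊓ S ≤ S)).toEquiv, Subgroup.inf_subgroupOf_right]
  exact K.index_mul_card

/-- A transitive abelian set of permutations inverted by two involutions fixing a point. -/
theorem false_of_inverting {X : Type*} (P : Set (Equiv.Perm X)) (x₀ : X)
    (htr : ∀ x, ∃ p ∈ P, p x₀ = x) {v w : Equiv.Perm X} (hv : v x₀ = x₀) (hw : w x₀ = x₀)
    (hv2 : v * v = 1) (hne : v ≠ w) (hPw : ∀ p ∈ P, w * p * w⁻¹ ∈ P)
    (iv : ∀ p ∈ P, v * p * v⁻¹ = p⁻¹) (iw : ∀ p ∈ P, w * p * w⁻¹ = p⁻¹) : False := by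
  refine hne ?_
  have h1 : v * w = 1 := by
    refine Equiv.ext fun x => ?_
    obtain ⟨p, hp, rfl⟩ := htr x
    have hc : v * w * p = p * (v * w) := by
      calc v * w * p = v * (w * p * w⁻¹) * w := by group
        _ = v * p⁻¹ * w := by rw [iw p hp]
        _ = v * p⁻¹ * v⁻¹ * (v * w) := by group
        _ = (v * p * v⁻¹)⁻¹ * (v * w) := by group
        _ = p * (v * w) := by rw [iv p hp, inv_inv]
    calc (v * w) (p x₀) = (v * w * p) x₀ := rfl
      _ = (p * (v * w)) x₀ := by rw [hc]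
      _ = p x₀ := by simp [hv, hw]
  exact mul_left_cancel (hv2.trans h1.symm)

/-- A centralised transitive set forces the identity. -/
theorem eq_one_of_centralizing {X : Type*} (P : Set (Equiv.Perm X)) (x₀ : X)
    (htr : ∀ x, ∃ p ∈ P, p x₀ = x) {v : Equiv.Perm X} (hv : v x₀ = x₀)
    (hc : ∀ p ∈ P, v * p = p * v) : v = 1 := by
  refine Equiv.ext fun x => ?_
  obtain ⟨p, hp, rfl⟩ := htr x
  calc v (p x₀) = (v * p) x₀ := rfl
    _ = (p * v) x₀ := by rw [hc p hp]
    _ = p x₀ := by simp [hv]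

/-- No transitive group of prime degree at least five with point stabiliser of exponent two and
order four. -/
theorem false_of_prime {X : Type*} [Finite X] (R : Subgroup (Equiv.Perm X)) (x₀ : X)
    {q : ℕ} (hq : q.Prime) (hq5 : 5 ≤ q) (hX : Nat.card X = q) (hR : Nat.card R = q * 4)
    (hS : {r : Equiv.Perm X | r ∈ R ∧ r x₀ = x₀}.ncard = 4)
    (hexp : ∀ r ∈ R, r x₀ = x₀ → r * r = 1) : False := by
  classical
  haveI : Fact q.Prime := ⟨hq⟩
  obtain ⟨P⟩ : Nonempty (Sylow q ↥R) := inferInstance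
  have hPc : Nat.card P = q := by
    rw [Sylow.card_eq_multiplicity, hR, Nat.factorization_mul hq.ne_zero (by norm_num)]
    have h4 : (4 : ℕ).factorization q = 0 :=
      Nat.factorization_eq_zero_of_not_dvd fun h => by
        have := Nat.le_of_dvd (by norm_num) h
        omega
    simp [hq.factorization_self, h4]
  have hidx : (P : Subgroup ↥R).index = 4 := by
    have h := (P : Subgroup ↥R).card_mul_index
    rw [hPc, hR] at h
    exact Nat.eq_of_mul_eq_mul_left hq.pos h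
  have h1 : Nat.card (Sylow q ↥R) = 1 := by
    have hd := P.card_dvd_index
    rw [hidx] at hd
    have hm := card_sylow_modEq_one q ↥R
    have hle := Nat.le_of_dvd (by norm_num) hd
    unfold Nat.ModEq at hm
    rw [Nat.mod_eq_of_lt (by omega), Nat.one_mod_eq_one.2 (by omega)] at hm
    exact hm
  haveI : Subsingleton (Sylow q ↥R) := (Nat.card_eq_one_iff_unique.1 h1).1
  haveI hPn : (P : Subgroup ↥R).Normal := P.normal_of_subsingleton
  obtain ⟨σ, hσ⟩ := exists_prime_orderOf_dvd_card' q (G := P) (by rw [hPc])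
  set s : Equiv.Perm X := ((σ : ↥R) : Equiv.Perm X) with hs
  have hso : orderOf s = q := by rw [hs, Subgroup.orderOf_coe, Subgroup.orderOf_coe, hσ]
  have hsR : s ∈ R := (σ : ↥R).2
  -- powers fixing the point are trivial
  have hfix : ∀ k : ℕ, (s ^ k) x₀ = x₀ → q ∣ k := by
    intro k hk
    have h2 : (s ^ k) ^ 2 = 1 := by rw [pow_two]; exact hexp _ (pow_mem hsR k) hk
    rw [← pow_mul, ← orderOf_dvd_iff_pow_eq_one, hso] at h2
    rcases (Nat.Prime.dvd_mul hq).1 h2 with h | h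
    · exact h
    · have := Nat.le_of_dvd (by norm_num) h
      omega
  have htr : ∀ x, ∃ p ∈ (zpowers s : Set (Equiv.Perm X)), p x₀ = x := by
    let f : Fin q → X := fun i => (s ^ (i : ℕ)) x₀
    have key : ∀ i j : Fin q, (i : ℕ) ≤ j → f i = f j → i = j := by
      intro i j hij h
      have hd := hfix (j - i) ((s ^ (i : ℕ)).injective (by
        rw [← Equiv.Perm.mul_apply, ← pow_add, Nat.add_sub_cancel' hij]
        exact h.symm))
      rcases Nat.eq_zero_or_pos ((j : ℕ) - i) with h0 | h0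
      · exact Fin.ext (by omega)
      · have := Nat.le_of_dvd h0 hd
        have := j.2
        omega
    have hf : Function.Injective f := fun i j h => by
      rcases le_total (i : ℕ) j with hij | hij
      · exact key i j hij h
      · exact (key j i hij h.symm).symm
    have hb := (Nat.bijective_iff_injective_and_card f).2 ⟨hf, by rw [Nat.card_fin, hX]⟩
    intro x
    obtain ⟨i, hi⟩ := hb.2 x
    exact ⟨s ^ (i : ℕ), pow_mem (mem_zpowers s) _, hi⟩
  have hinv : ∀ v, v ∈ R → v x₀ = x₀ → v ≠ 1 → ∀ p ∈ zpowers s, v * p * v⁻¹ = p⁻¹ := by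
    intro v hvR hv0 hv1
    have hPs : (P : Subgroup ↥R) = zpowers (σ : ↥R) :=
      (Subgroup.eq_of_le_of_card_ge (zpowers_le.2 σ.2)
        (by rw [hPc, Nat.card_zpowers, Subgroup.orderOf_coe, hσ])).symm
    have hmem : (⟨v, hvR⟩ : ↥R) * σ * (⟨v, hvR⟩ : ↥R)⁻¹ ∈ zpowers (σ : ↥R) :=
      hPs ▸ hPn.conj_mem _ σ.2 _
    obtain ⟨k, hk⟩ := mem_zpowers_iff.1 hmem
    have hk' : v * s * v⁻¹ = s ^ k := by
      have := congrArg (fun r : ↥R => (r : Equiv.Perm X)) hk.symm
      simpa using this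
    have hv2 := hexp v hvR hv0
    have hkk : s ^ (k * k) = s := by
      rw [zpow_mul, ← hk', conj_zpow, ← hk']
      calc v * (v * s * v⁻¹) * v⁻¹ = (v * v) * s * (v * v)⁻¹ := by group
        _ = s := by rw [hv2]; group
    have hd : (q : ℤ) ∣ (k - 1) * (k + 1) := by
      rw [← hso, orderOf_dvd_iff_zpow_eq_one, show (k - 1) * (k + 1) = k * k - 1 by ring, zpow_sub,
        hkk, zpow_one, mul_inv_cancel]
    rcases (Nat.prime_iff_prime_int.1 hq).dvd_mul.1 hd with h | h
    · exfalso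
      refine hv1 (eq_one_of_centralizing (zpowers s : Set (Equiv.Perm X)) x₀ htr hv0 fun p hp => ?_)
      obtain ⟨i, rfl⟩ := mem_zpowers_iff.1 hp
      have hs1 : s ^ (k - 1) = 1 := orderOf_dvd_iff_zpow_eq_one.1 (hso.symm ▸ h)
      have hsk : s ^ k = s := by
        calc s ^ k = s ^ (k - 1) * s := by rw [zpow_sub, zpow_one, inv_mul_cancel_right]
          _ = s := by rw [hs1, one_mul]
      have hcs : Commute v s := mul_inv_eq_iff_eq_mul.1 (hk'.trans hsk)
      exact (hcs.zpow_right i).eq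
    · intro p hp
      obtain ⟨i, rfl⟩ := mem_zpowers_iff.1 hp
      have hs1 : s ^ (k + 1) = 1 := orderOf_dvd_iff_zpow_eq_one.1 (hso.symm ▸ h)
      have hsk : s ^ k = s⁻¹ := eq_inv_of_mul_eq_one_left (by rw [← zpow_add_one, hs1])
      rw [← conj_zpow, hk', hsk, inv_zpow]
  obtain ⟨v, hv, w, hw, hne, hv1, hw1⟩ : ∃ v ∈ {r : Equiv.Perm X | r ∈ R ∧ r x₀ = x₀},
      ∃ w ∈ {r : Equiv.Perm X | r ∈ R ∧ r x₀ = x₀}, v ≠ w ∧ v ≠ 1 ∧ w ≠ 1 := by
    have hcard : 1 < ({r : Equiv.Perm X | r ∈ R ∧ r x₀ = x₀} \ {1}).ncard := by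
      rw [Set.ncard_sdiff_singleton_of_mem (show (1 : Equiv.Perm X) ∈
        {r : Equiv.Perm X | r ∈ R ∧ r x₀ = x₀} from ⟨one_mem R, rfl⟩), hS]
      norm_num
    obtain ⟨v, w, hv, hw, hne⟩ := (Set.one_lt_ncard_iff (Set.toFinite _)).1 hcard
    exact ⟨v, hv.1, w, hw.1, hne, by simpa using hv.2, by simpa using hw.2⟩
  exact false_of_inverting (zpowers s : Set (Equiv.Perm X)) x₀ htr hv.2 hw.2 (hexp v hv.1 hv.2) hne
    (fun p hp => by
      show w * p * w⁻¹ ∈ zpowers s
      rw [hinv w hw.1 hw.2 hw1 p hp]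
      exact inv_mem hp)
    (hinv v hv.1 hv.2 hv1) (hinv w hw.1 hw.2 hw1)

/-- No transitive group of degree nine with point stabiliser of exponent two and order four whose
involutions fix one point. -/
theorem false_of_nine {X : Type*} [Finite X] (R : Subgroup (Equiv.Perm X)) (x₀ : X)
    (hX : Nat.card X = 9) (hR : Nat.card R = 36) (htrR : ∀ x, ∃ r ∈ R, r x₀ = x)
    (hS : {r : Equiv.Perm X | r ∈ R ∧ r x₀ = x₀}.ncard = 4)
    (hexp : ∀ r ∈ R, r x₀ = x₀ → r * r = 1)
    (hone : ∀ r ∈ R, r x₀ = x₀ → r ≠ 1 → ∀ x, r x = x → x = x₀) : False := by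
  classical
  haveI : Fact (Nat.Prime 3) := ⟨Nat.prime_three⟩
  haveI : Fintype X := Fintype.ofFinite X
  obtain ⟨P⟩ : Nonempty (Sylow 3 ↥R) := inferInstance
  have hPc : Nat.card P = 9 := by
    rw [Sylow.card_eq_multiplicity, hR, show (36 : ℕ) = 3 ^ 2 * 4 from rfl,
      Nat.factorization_mul (by norm_num) (by norm_num),
      Nat.Prime.factorization_pow Nat.prime_three]
    have : (4 : ℕ).factorization 3 = 0 := Nat.factorization_eq_zero_of_not_dvd (by norm_num)
    simp [this]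
  set Q := (P : Subgroup ↥R).map R.subtype
  have hQc : Nat.card Q = 9 := by
    rw [Subgroup.card_map_of_injective R.subtype_injective]; exact hPc
  have hQR : Q ≤ R := map_subtype_le _
  have hQfix : ∀ p ∈ Q, p x₀ = x₀ → p = 1 := by
    intro p hp h
    have h2 : orderOf p ∣ 2 :=
      orderOf_dvd_of_pow_eq_one (by rw [pow_two]; exact hexp p (hQR hp) h)
    have h9 : orderOf p ∣ 9 := hQc ▸ Subgroup.orderOf_dvd_natCard _ hp
    exact orderOf_eq_one_iff.1 (Nat.eq_one_of_dvd_one (Nat.dvd_gcd h2 h9))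
  have htr : ∀ x, ∃ p ∈ (Q : Set (Equiv.Perm X)), p x₀ = x := by
    let f : ↥Q → X := fun p => (p : Equiv.Perm X) x₀
    have hf : Function.Injective f := fun p p' h => by
      have h' : ((p' : Equiv.Perm X)⁻¹ * p) x₀ = x₀ := by
        show (p' : Equiv.Perm X)⁻¹ ((p : Equiv.Perm X) x₀) = x₀
        rw [show (p : Equiv.Perm X) x₀ = (p' : Equiv.Perm X) x₀ from h, ← Equiv.Perm.mul_apply,
          inv_mul_cancel]
        rfl
      exact (Subtype.ext (inv_mul_eq_one.1 (hQfix _ (mul_mem (inv_mem p'.2) p.2) h'))).symm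
    have hb := (Nat.bijective_iff_injective_and_card f).2 ⟨hf, by rw [hQc, hX]⟩
    intro x
    obtain ⟨p, hp⟩ := hb.2 x
    exact ⟨p, p.2, hp⟩
  -- the fixed-point-free elements are those of `Q`
  let st : X → Finset (Equiv.Perm X) := fun x =>
    (Finset.univ : Finset (Equiv.Perm X)).filter fun r => r ∈ R ∧ r x = x ∧ r ≠ 1
  have hone' : ∀ x, ∀ r ∈ st x, ∀ y, r y = y → y = x := by
    intro x r hr y hy
    obtain ⟨h, hh, hhx⟩ := htrR x
    simp only [st, Finset.mem_filter, Finset.mem_univ, true_and] at hr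
    have hh' : h⁻¹ x = x₀ := h.symm_apply_eq.2 hhx.symm
    have := hone (h⁻¹ * r * h) (mul_mem (mul_mem (inv_mem hh) hr.1) hh)
      (by simp [Equiv.Perm.mul_apply, hhx, hr.2.1, hh'])
      (fun e => hr.2.2 (by
        calc r = h * (h⁻¹ * r * h) * h⁻¹ := by group
          _ = 1 := by rw [e]; group)) (h⁻¹ y) (by simp [Equiv.Perm.mul_apply, hy])
    calc y = h (h⁻¹ y) := by simp
      _ = x := by rw [this, hhx]
  have hst0 : (st x₀).card = 3 := by
    have he : st x₀ = ({r : Equiv.Perm X | r ∈ R ∧ r x₀ = x₀}.toFinset).erase 1 := by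
      ext r; simp [st, and_comm, and_assoc, and_left_comm]
    rw [he, Finset.card_erase_of_mem (by simp [one_mem]), ← Set.ncard_eq_toFinset_card', hS]
  have hst : ∀ x, (st x).card = 3 := by
    intro x
    obtain ⟨h, hh, hhx⟩ := htrR x
    have hh' : h⁻¹ x = x₀ := h.symm_apply_eq.2 hhx.symm
    rw [← hst0]
    refine (Finset.card_bij (fun r _ => h * r * h⁻¹) (fun r hr => ?_)
      (fun _ _ _ _ e => mul_left_cancel (mul_right_cancel e)) (fun r hr => ?_)).symm
    · simp only [st, Finset.mem_filter, Finset.mem_univ, true_and] at hr ⊢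
      refine ⟨mul_mem (mul_mem hh hr.1) (inv_mem hh),
        by simp [Equiv.Perm.mul_apply, hh', hr.2.1, hhx], fun e => hr.2.2 ?_⟩
      calc r = h⁻¹ * (h * r * h⁻¹) * h := by group
        _ = 1 := by rw [e]; group
    · simp only [st, Finset.mem_filter, Finset.mem_univ, true_and] at hr ⊢
      refine ⟨h⁻¹ * r * h, ⟨mul_mem (mul_mem (inv_mem hh) hr.1) hh,
        by simp [Equiv.Perm.mul_apply, hhx, hr.2.1, hh'], fun e => hr.2.2 ?_⟩, by group⟩
      calc r = h * (h⁻¹ * r * h) * h⁻¹ := by group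
        _ = 1 := by rw [e]; group
  have hU : ((Finset.univ : Finset X).biUnion st).card = 27 := by
    rw [Finset.card_biUnion (fun x _ y _ hxy => Finset.disjoint_left.2 fun r hx hy => hxy
      ((hone' x r hx y (by simp only [st, Finset.mem_filter] at hy; exact hy.2.2.1)).symm))]
    rw [Finset.sum_congr rfl fun x _ => hst x, Finset.sum_const, Finset.card_univ,
      ← Nat.card_eq_fintype_card, hX]
    rfl
  have hmain : ∀ r ∈ R, (∀ x, r x ≠ x) → r ∈ Q := by
    intro r hr hfr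
    by_contra hrQ
    have hsub : insert r (((Q : Set (Equiv.Perm X)).toFinset) ∪ (Finset.univ : Finset X).biUnion st) ⊆
        (R : Set (Equiv.Perm X)).toFinset := by
      intro p hp
      simp only [Finset.mem_insert, Finset.mem_union, Finset.mem_biUnion, Finset.mem_univ, true_and,
        Set.mem_toFinset, SetLike.mem_coe, st, Finset.mem_filter] at hp ⊢
      rcases hp with rfl | hp | ⟨x, hp, -⟩
      exacts [hr, hQR hp, hp]
    have hd : Disjoint ((Q : Set (Equiv.Perm X)).toFinset) ((Finset.univ : Finset X).biUnion st) := by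
      refine Finset.disjoint_left.2 fun p hp hp' => ?_
      simp only [Finset.mem_biUnion, Finset.mem_univ, true_and, st, Finset.mem_filter] at hp'
      obtain ⟨x, -, hx, hp1⟩ := hp'
      simp only [Set.mem_toFinset, SetLike.mem_coe] at hp
      -- a conjugate by a transitive abelian group moves every point
      obtain ⟨p', hp', rfl⟩ := htr x
      letI := IsPGroup.commGroupOfCardEqPrimeSq (p := 3) (G := Q) (by rw [hQc]; rfl)
      have hc : p * p' = p' * p := congrArg Subtype.val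
        (mul_comm (⟨p, hp⟩ : Q) ⟨p', hp'⟩)
      refine hp1 (hQfix p hp (p'.injective ?_))
      rw [← Equiv.Perm.mul_apply, ← hc, Equiv.Perm.mul_apply, hx]
    have hle := Finset.card_le_card hsub
    rw [Finset.card_insert_of_notMem, Finset.card_union_of_disjoint hd, hU, Set.toFinset_card,
      Set.toFinset_card, ← Nat.card_eq_fintype_card, ← Nat.card_eq_fintype_card,
      SetLike.coe_sort_coe, SetLike.coe_sort_coe, hQc, hR] at hle
    · omega
    · simp only [Finset.mem_union, Set.mem_toFinset, SetLike.mem_coe, Finset.mem_biUnion,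
        Finset.mem_univ, true_and, st, Finset.mem_filter, not_or, not_exists]
      exact ⟨hrQ, fun x h => hfr x h.2.1⟩
  letI := IsPGroup.commGroupOfCardEqPrimeSq (p := 3) (G := Q) (by rw [hQc]; rfl)
  have hcomm : ∀ p ∈ Q, ∀ p' ∈ Q, p * p' = p' * p := fun p hp p' hp' =>
    congrArg Subtype.val (mul_comm (⟨p, hp⟩ : Q) ⟨p', hp'⟩)
  have hfree : ∀ p ∈ Q, p ≠ 1 → ∀ x, p x ≠ x := by
    intro p hp hp1 x hx
    obtain ⟨p', hp', rfl⟩ := htr x
    refine hp1 (hQfix p hp (p'.injective ?_))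
    rw [← Equiv.Perm.mul_apply, ← hcomm p hp p' hp', Equiv.Perm.mul_apply, hx]
  have hnorm : ∀ r ∈ R, ∀ p ∈ Q, r * p * r⁻¹ ∈ Q := by
    intro r hr p hp
    by_cases hp1 : p = 1
    · rw [hp1, mul_one, mul_inv_cancel]; exact one_mem _
    refine hmain _ (mul_mem (mul_mem hr (hQR hp)) (inv_mem hr)) fun x hx => hfree p hp hp1 (r⁻¹ x) ?_
    refine r.injective ?_
    simpa [Equiv.Perm.mul_apply] using hx
  have hinv : ∀ v, v ∈ R → v x₀ = x₀ → v ≠ 1 → ∀ p ∈ Q, v * p * v⁻¹ = p⁻¹ := by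
    intro v hvR hv0 hv1 p hp
    have hv2 := hexp v hvR hv0
    have hvi : v⁻¹ = v := inv_eq_of_mul_eq_one_right hv2
    have hq := hnorm v hvR p hp
    have hqv : v * (v * p * v⁻¹) * v⁻¹ = p := by
      calc v * (v * p * v⁻¹) * v⁻¹ = (v * v) * p * (v * v)⁻¹ := by group
        _ = p := by rw [hv2]; group
    have hfixc : v * (p * (v * p * v⁻¹)) * v⁻¹ = p * (v * p * v⁻¹) := by
      rw [show v * (p * (v * p * v⁻¹)) * v⁻¹ = (v * p * v⁻¹) * (v * (v * p * v⁻¹) * v⁻¹) by group,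
        hqv, hcomm _ hq p hp]
    have hcx : v ((p * (v * p * v⁻¹)) x₀) = (p * (v * p * v⁻¹)) x₀ := by
      calc v ((p * (v * p * v⁻¹)) x₀) = (v * (p * (v * p * v⁻¹))) x₀ := rfl
        _ = ((p * (v * p * v⁻¹)) * v) x₀ := by rw [mul_inv_eq_iff_eq_mul.1 hfixc]
        _ = (p * (v * p * v⁻¹)) x₀ := congrArg (p * (v * p * v⁻¹) : Equiv.Perm X) hv0
    have := hQfix _ (mul_mem hp hq) (hone v hvR hv0 hv1 _ hcx)
    exact eq_inv_of_mul_eq_one_right this
  obtain ⟨v, hv, w, hw, hne, hv1, hw1⟩ : ∃ v ∈ {r : Equiv.Perm X | r ∈ R ∧ r x₀ = x₀},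
      ∃ w ∈ {r : Equiv.Perm X | r ∈ R ∧ r x₀ = x₀}, v ≠ w ∧ v ≠ 1 ∧ w ≠ 1 := by
    have hcard : 1 < ({r : Equiv.Perm X | r ∈ R ∧ r x₀ = x₀} \ {1}).ncard := by
      rw [Set.ncard_sdiff_singleton_of_mem (show (1 : Equiv.Perm X) ∈
        {r : Equiv.Perm X | r ∈ R ∧ r x₀ = x₀} from ⟨one_mem R, rfl⟩), hS]
      norm_num
    obtain ⟨v, w, hv, hw, hne⟩ := (Set.one_lt_ncard_iff (Set.toFinite _)).1 hcard
    exact ⟨v, hv.1, w, hw.1, hne, by simpa using hv.2, by simpa using hw.2⟩
  exact false_of_inverting (Q : Set (Equiv.Perm X)) x₀ htr hv.2 hw.2 (hexp v hv.1 hv.2) hne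
    (fun p hp => hnorm w hw.1 p hp) (hinv v hv.1 hv.2 hv1) (hinv w hw.1 hw.2 hw1)

namespace Flag

variable {z : G} {T A B V : Subgroup G} (F : Flag z T A B V)
include F

/-- An element mapping `z` into the centre of `T` normalises `T`. -/
theorem mem_normalizer_T [Finite G] {g : G} (h : g * z * g⁻¹ ∈ V) : g ∈ normalizer (T : Set G) := by
  refine mem_normalizer_of_map_eq (Subgroup.eq_of_le_of_card_ge (fun t ht => ?_)
    (by rw [card_map_conj])).symm
  refine mem_map_conj.2 (F.mem_T.2 ?_)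
  have hc := F.comm_V h ht
  calc g⁻¹ * t * g * z = g⁻¹ * (t * (g * z * g⁻¹)) * g := by group
    _ = g⁻¹ * (g * z * g⁻¹ * t) * g := by rw [hc]
    _ = z * (g⁻¹ * t * g) := by group

theorem conj_V_mem [Finite G] {n v : G} (hn : n ∈ normalizer (T : Set G)) (hv : v ∈ V) :
    n * v * n⁻¹ ∈ V :=
  F.mem_V ((mem_normalizer_iff.1 (F.normalizer_le hn) v).1 (F.hVA hv))
    ((mem_normalizer_iff.1 (F.symm.normalizer_le hn) v).1 (F.hVB hv))

theorem orbit_eq [Finite G] :
    {x : G | x ∈ A ∧ IsConj z x} = {y | ∃ n ∈ normalizer (A : Set G), n * z * n⁻¹ = y} := by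
  ext x
  constructor
  · rintro ⟨hx, hc⟩
    obtain ⟨g, rfl⟩ := isConj_iff.1 hc
    exact ⟨g, F.mem_normalizer_of_conj hx, rfl⟩
  · rintro ⟨n, hn, rfl⟩
    exact ⟨(mem_normalizer_iff.1 hn z).1 (F.hVA F.zV), isConj_iff.2 ⟨n, rfl⟩⟩

theorem card_normalizer [Finite G] :
    {x : G | x ∈ A ∧ IsConj z x}.ncard * 64 = Nat.card ↥(normalizer (A : Set G)) := by
  rw [F.orbit_eq, ← orbit_card (normalizer (A : Set G)) z, F.hT, inf_eq_right.2 F.T_le_normalizer,
    F.cardT]

theorem card_normalizer_T [Finite G] :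
    {x : G | x ∈ V ∧ IsConj z x}.ncard * 64 = Nat.card ↥(normalizer (T : Set G)) := by
  have he : {x : G | x ∈ V ∧ IsConj z x} = {y | ∃ n ∈ normalizer (T : Set G), n * z * n⁻¹ = y} := by
    ext x
    constructor
    · rintro ⟨hx, hc⟩
      obtain ⟨g, rfl⟩ := isConj_iff.1 hc
      exact ⟨g, F.mem_normalizer_T hx, rfl⟩
    · rintro ⟨n, hn, rfl⟩
      exact ⟨F.conj_V_mem hn F.zV, isConj_iff.2 ⟨n, rfl⟩⟩
  rw [he, ← orbit_card (normalizer (T : Set G)) z, F.hT, inf_eq_right.2 Subgroup.le_normalizer,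
    F.cardT]

theorem odd_orbit [Finite G] {N : Subgroup G} (hN : T ≤ N) {m : ℕ}
    (h : m * 64 = Nat.card N) : Odd m := by
  rw [← Nat.not_even_iff_odd]
  intro he
  refine F.odd_index ?_
  have h2 : T.relIndex N = m := by
    have h1 := (T.subgroupOf N).card_mul_index
    rw [Nat.card_congr (Subgroup.subgroupOfEquivOfLe hN).toEquiv, F.cardT, ← h] at h1
    show (T.subgroupOf N).index = m
    omega
  exact (h2 ▸ even_iff_two_dvd.1 he).trans (Subgroup.relIndex_dvd_index_of_le hN)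

theorem card_conj_V [Finite G] :
    {x : G | x ∈ V ∧ IsConj z x}.ncard = 1 ∨ {x : G | x ∈ V ∧ IsConj z x}.ncard = 3 := by
  have ho := F.odd_orbit Subgroup.le_normalizer F.card_normalizer_T
  have hle : {x : G | x ∈ V ∧ IsConj z x}.ncard ≤ ((V : Set G) \ {1}).ncard :=
    Set.ncard_le_ncard (fun x hx => ⟨hx.1, fun h => F.z_ne (isConj_one_left.1 (h ▸ hx.2))⟩)
      (Set.toFinite _)
  have hV4 : (V : Set G).ncard = 4 := by
    rw [← Nat.card_coe_set_eq, SetLike.coe_sort_coe, F.cardV]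
  rw [Set.ncard_sdiff_singleton_of_mem (one_mem V), hV4] at hle
  obtain ⟨k, hk⟩ := ho
  omega

/-- Every element of a coset of `V` in `A` outside `V` is a conjugate under `B`. -/
theorem exists_conj_coset [Finite G] {a v : G} (ha : a ∈ A) (haV : a ∉ V) (hv : v ∈ V) :
    ∃ b ∈ B, b * a * b⁻¹ = a * v := by
  have hs : {y | ∃ b ∈ B, b * a * b⁻¹ = y} ⊆ (fun v => a * v) '' (V : Set G) := by
    rintro y ⟨b, hb, rfl⟩
    exact ⟨_, F.commutator_mem ha hb, by group⟩
  have hcard : {y | ∃ b ∈ B, b * a * b⁻¹ = y}.ncard * 4 = 16 := by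
    have hBC : B ⊓ centralizer ({a} : Set G) = V := by
      refine le_antisymm (fun b hb => ?_) (le_inf F.hVB fun w hw =>
        mem_centralizer_singleton_iff.2 (F.comm_V hw (F.hA ha)).symm)
      exact F.mem_V (F.selfA a ha haV b (F.hB (mem_inf.1 hb).1)
        (mem_centralizer_singleton_iff.1 (mem_inf.1 hb).2)) (mem_inf.1 hb).1
    have h := orbit_card B a
    rw [hBC, F.cardV, F.cardB] at h
    exact h
  have heq := Set.eq_of_subset_of_ncard_le hs (by
    rw [Set.ncard_image_of_injective _ (mul_right_injective a), ← Nat.card_coe_set_eq,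
      SetLike.coe_sort_coe, F.cardV]
    omega)
  have hmem : a * v ∈ (fun v => a * v) '' (V : Set G) := ⟨v, hv, rfl⟩
  rw [← heq] at hmem
  exact hmem

theorem orbit_cases [Finite G] :
    (∀ x ∈ A, IsConj z x → x ∈ V) ∨ (∀ x ∈ A, x ≠ 1 → IsConj z x) := by
  classical
  set O := {x : G | x ∈ A ∧ IsConj z x} with hO
  set W := {x : G | x ∈ V ∧ IsConj z x} with hW
  by_cases hall : ∀ x ∈ A, IsConj z x → x ∈ V
  · exact Or.inl hall
  refine Or.inr ?_
  push Not at hall
  obtain ⟨a₁, ha₁, hc₁, ha₁V⟩ := hall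
  -- the conjugates outside `V` form whole cosets of `V`
  have hdvd : 4 ∣ (O \ (V : Set G)).ncard := by
    let X := {x : G // x ∈ O \ (V : Set G)}
    letI : MulAction V X :=
      { smul := fun v x => ⟨(v : G) * x.1, by
          refine ⟨⟨mul_mem (F.hVA v.2) x.2.1.1, ?_⟩, fun h => x.2.2 ?_⟩
          · obtain ⟨b, -, hbx⟩ := F.exists_conj_coset x.2.1.1 x.2.2 v.2
            rw [comm_of_sq F.eA (F.hVA v.2) x.2.1.1, ← hbx]
            exact x.2.1.2.trans (isConj_iff.2 ⟨b, rfl⟩)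
          · simpa using mul_mem (inv_mem v.2) (SetLike.mem_coe.1 h)⟩
        one_smul := fun x => Subtype.ext (one_mul x.1)
        mul_smul := fun v w x => Subtype.ext (mul_assoc (v : G) (w : G) x.1) }
    have hfree : ∀ x : X, MulAction.stabilizer V x = ⊥ := fun x => by
      refine (eq_bot_iff).2 fun v hv => ?_
      have : (v : G) * x.1 = x.1 := congrArg Subtype.val (MulAction.mem_stabilizer_iff.1 hv)
      exact Subgroup.mem_bot.2 (Subtype.ext (mul_eq_right.1 this))
    rw [← Nat.card_coe_set_eq]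
    show 4 ∣ Nat.card X
    haveI : Fintype (MulAction.orbitRel.Quotient V X) := Fintype.ofFinite _
    rw [Nat.card_congr (MulAction.selfEquivSigmaOrbits' V X), Nat.card_sigma]
    refine Finset.dvd_sum fun ω _ => ?_
    induction ω using Quotient.inductionOn' with
    | h x =>
      rw [MulAction.orbitRel.Quotient.orbit_mk,
        Nat.card_congr (MulAction.orbitEquivQuotientStabilizer V x), ← Subgroup.index_eq_card,
        hfree, Subgroup.index_bot, F.cardV]
  have hsplit : O.ncard = W.ncard + (O \ (V : Set G)).ncard := by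
    have hi : W = O ∩ (V : Set G) :=
      Set.ext fun x => ⟨fun h => ⟨⟨F.hVA h.1, h.2⟩, h.1⟩, fun h => ⟨h.2, h.1.2⟩⟩
    rw [hi, Set.ncard_inter_add_ncard_sdiff_eq_ncard O (V : Set G) (Set.toFinite _)]
  have hpos : 0 < (O \ (V : Set G)).ncard :=
    Set.ncard_pos (Set.toFinite _) |>.2 ⟨a₁, ⟨ha₁, hc₁⟩, ha₁V⟩
  have hne : O ⊆ (A : Set G) \ {1} := fun x hx =>
    ⟨hx.1, fun h => F.z_ne (isConj_one_left.1 (h ▸ hx.2))⟩
  have hA15 : ((A : Set G) \ {1}).ncard = 15 := by
    rw [Set.ncard_sdiff_singleton_of_mem (one_mem A), ← Nat.card_coe_set_eq, SetLike.coe_sort_coe,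
      F.cardA]
  have hle : O.ncard ≤ 15 := hA15 ▸ Set.ncard_le_ncard hne (Set.toFinite _)
  by_cases h15 : O.ncard = 15
  · intro x hx hx1
    have := Set.eq_of_subset_of_ncard_le hne (by rw [h15, hA15])
    exact ((this ▸ ⟨hx, hx1⟩ : x ∈ O)).2
  exfalso
  -- the action on the orbit
  set N := normalizer (A : Set G)
  let X := {x : G // x ∈ O}
  have hmem : ∀ n : ↥N, ∀ x : X, (n : G) * x.1 * (n : G)⁻¹ ∈ O := fun n x =>
    ⟨(mem_normalizer_iff.1 n.2 x.1).1 x.2.1, x.2.2.trans (isConj_iff.2 ⟨n, rfl⟩)⟩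
  letI : MulAction N X :=
    { smul := fun n x => ⟨(n : G) * x.1 * (n : G)⁻¹, hmem n x⟩
      one_smul := fun x => Subtype.ext (by show (1 : G) * x.1 * (1 : G)⁻¹ = x.1; group)
      mul_smul := fun m n x => Subtype.ext (by
        show (m : G) * (n : G) * x.1 * ((m : G) * (n : G))⁻¹ =
          (m : G) * ((n : G) * x.1 * (n : G)⁻¹) * (m : G)⁻¹
        group) }
  let φ := MulAction.toPermHom N X
  let x₀ : X := ⟨z, F.hVA F.zV, IsConj.refl z⟩
  have hstab : ∀ n : ↥N, φ n x₀ = x₀ → (n : G) ∈ T := fun n h => by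
    have h' : (n : G) * z * (n : G)⁻¹ = z := congrArg Subtype.val h
    exact F.mem_T.2 (mul_inv_eq_iff_eq_mul.1 h')
  have hfixA : ∀ n : ↥N, (n : G) ∈ T → ∀ x : X, φ n x = x → x.1 ∉ V → (n : G) ∈ A := by
    intro n hn x h hx
    have h' : (n : G) * x.1 * (n : G)⁻¹ = x.1 := congrArg Subtype.val h
    exact F.selfA x.1 x.2.1 hx n hn (mul_inv_eq_iff_eq_mul.1 h')
  have hker : φ.ker = A.subgroupOf N := by
    ext n
    rw [MonoidHom.mem_ker, mem_subgroupOf]
    refine ⟨fun h => hfixA n (hstab n (by rw [h]; rfl)) ⟨a₁, ha₁, hc₁⟩ (by rw [h]; rfl) ha₁V,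
      fun h => Equiv.ext fun x => Subtype.ext ?_⟩
    show (n : G) * x.1 * (n : G)⁻¹ = x.1
    rw [comm_of_sq F.eA h x.2.1, mul_inv_cancel_right]
  have hAN : A ≤ N := Subgroup.le_normalizer
  have hRc : Nat.card φ.range = O.ncard * 4 := by
    have h := φ.ker.index_mul_card
    have hN' : O.ncard * 64 = Nat.card ↥N := F.card_normalizer
    rw [Subgroup.index_ker, hker, Nat.card_congr (Subgroup.subgroupOfEquivOfLe hAN).toEquiv,
      F.cardA, ← hN'] at h
    omega
  have hexp : ∀ r ∈ φ.range, r x₀ = x₀ → r * r = 1 := by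
    rintro _ ⟨n, rfl⟩ h
    rw [← map_mul]
    refine MonoidHom.mem_ker.1 (hker ▸ mem_subgroupOf.2 ?_)
    obtain ⟨a, ha, b, hb, he⟩ := F.exists_mul (hstab n h)
    show (n : G) * (n : G) ∈ A
    rw [he, show a * b * (a * b) = a * (b * a * b⁻¹) * (b * b) by group, F.eB b hb, mul_one]
    exact mul_mem ha (F.nA b (F.hB hb) a ha)
  have hS : {r : Equiv.Perm X | r ∈ φ.range ∧ r x₀ = x₀}.ncard = 4 := by
    set ψ := φ.comp (Subgroup.inclusion F.T_le_normalizer) with hψ
    have he : {r : Equiv.Perm X | r ∈ φ.range ∧ r x₀ = x₀} = (ψ.range : Set (Equiv.Perm X)) := by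
      ext r
      constructor
      · rintro ⟨⟨n, rfl⟩, h⟩
        exact ⟨⟨n, hstab n h⟩, rfl⟩
      · rintro ⟨t, rfl⟩
        refine ⟨⟨_, rfl⟩, Subtype.ext ?_⟩
        show (t : G) * z * (t : G)⁻¹ = z
        rw [F.mem_T.1 t.2, mul_inv_cancel_right]
    have hk : ψ.ker = A.subgroupOf T := by
      ext t
      rw [hψ, MonoidHom.mem_ker, MonoidHom.comp_apply, ← MonoidHom.mem_ker, hker, mem_subgroupOf,
        mem_subgroupOf]
      rfl
    have h := ψ.ker.index_mul_card
    rw [Subgroup.index_ker, hk, Nat.card_congr (Subgroup.subgroupOfEquivOfLe F.hA).toEquiv,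
      F.cardA, F.cardT] at h
    rw [he, ← Nat.card_coe_set_eq, SetLike.coe_sort_coe]
    omega
  have htrR : ∀ x : X, ∃ r ∈ φ.range, r x₀ = x := by
    intro x
    obtain ⟨g, hg⟩ := isConj_iff.1 x.2.2
    have hgN := F.mem_normalizer_of_conj (g := g) (hg.symm ▸ x.2.1)
    exact ⟨φ ⟨g, hgN⟩, ⟨_, rfl⟩, Subtype.ext hg⟩
  have hXc : Nat.card X = O.ncard := Nat.card_coe_set_eq O
  have ho : Odd O.ncard := F.odd_orbit F.T_le_normalizer F.card_normalizer
  obtain ⟨k, hk⟩ := ho
  obtain ⟨l, hl⟩ := hdvd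
  rcases F.card_conj_V with hW1 | hW3
  · rw [← hW] at hW1
    obtain h | h | h : O.ncard = 5 ∨ O.ncard = 13 ∨ O.ncard = 9 := by omega
    · exact false_of_prime φ.range x₀ (q := 5) (by norm_num) le_rfl (hXc.trans h) (by rw [hRc, h]) hS hexp
    · exact false_of_prime φ.range x₀ (q := 13) (by norm_num) (by norm_num) (hXc.trans h) (by rw [hRc, h]) hS hexp
    refine false_of_nine φ.range x₀ (hXc.trans h) (by rw [hRc, h]) htrR hS hexp ?_
    rintro _ ⟨n, rfl⟩ h0 hn1 x hx
    have hxV : x.1 ∈ V := by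
      by_contra hxV
      exact hn1 (MonoidHom.mem_ker.1 (hker ▸ mem_subgroupOf.2 (hfixA n (hstab n h0) x hx hxV)))
    obtain ⟨y, hy⟩ := Set.ncard_eq_one.1 hW1
    have h1 : x.1 ∈ W := ⟨hxV, x.2.2⟩
    have h2 : z ∈ W := ⟨F.zV, IsConj.refl z⟩
    rw [hy, Set.mem_singleton_iff] at h1 h2
    exact Subtype.ext (h1.trans h2.symm)
  · rw [← hW] at hW3
    obtain h | h : O.ncard = 7 ∨ O.ncard = 11 := by omega
    · exact false_of_prime φ.range x₀ (q := 7) (by norm_num) (by norm_num) (hXc.trans h) (by rw [hRc, h]) hS hexp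
    · exact false_of_prime φ.range x₀ (q := 11) (by norm_num) (by norm_num) (hXc.trans h) (by rw [hRc, h]) hS hexp

end Flag

end CfsgLib.InvChar.LThreeFour
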