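import Cfsg.Agent.Lib.InvChar.LThreeFour.Search

/-!
The eight possible shapes of the integer columns, each checked by the branch-and-bound.
-/

set_option autoImplicit false

namespace CfsgLib.InvChar.LThreeFour.Search

/-- The row of the three characters separated by the classes of elements of order four. -/
def yRow (y f : ℤ) : Row :=
  ⟨3 * (f + 4 * y + 3) ^ 3, (f + 4 * y + 3) ^ 2 * (3 * f + 1),
    ((-27 * (f + 4 * y + 3) - 12 * (3 * f + 1)) % 64).toNat, 3 * y + 2, 3 * f + 1⟩

/-- The row of a character with equal values on the classes of elements of order four. -/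
def oRow (p : ℤ × ℤ) : Row :=
  ⟨(p.2 + 4 * p.1) ^ 3, (p.2 + 4 * p.1) ^ 2 * p.2,
    ((-27 * (p.2 + 4 * p.1) - 36 * p.2) % 64).toNat, p.1, p.2⟩

/-- The normalised coordinate pairs. -/
def opts : List (ℤ × ℤ) :=
  [(0, 1), (0, 2), (1, -2), (1, -1), (1, 0), (1, 1), (1, 2), (2, -2), (2, -1), (2, 0), (2, 1),
    (2, 2)]

/-- Multisets of pairs with given norms and product. -/
def go : List (ℤ × ℤ) → ℤ → ℤ → ℤ → List (List (ℤ × ℤ))
  | [], p, q, r => if p = 0 ∧ q = 0 ∧ r = 0 then [[]] else []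
  | o :: os, p, q, r => (List.range 6).flatMap fun (k : ℕ) =>
      if (k : ℤ) * o.1 * o.1 ≤ p ∧ (k : ℤ) * o.2 * o.2 ≤ q then
        (go os (p - (k : ℤ) * o.1 * o.1) (q - (k : ℤ) * o.2 * o.2)
          (r - (k : ℤ) * o.1 * o.2)).map (List.replicate k o ++ ·)
      else []

/-- The shapes belonging to a pair of parameters. -/
def shapes (y f : ℤ) : List (List Row) :=
  (go opts (5 - (3 * y * y + 4 * y + 2)) (5 - (3 * f * f + 2 * f + 1))
    (-2 - 3 * y * f - y - 2 * f)).map fun v => yRow y f :: v.map oRow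

set_option maxRecDepth 100000

theorem check00 : (shapes 0 0).all (fun R => search 120 (start R)) = true := by decide +kernel

theorem check01 : (shapes 0 (-1)).all (fun R => search 120 (start R)) = true := by decide +kernel

theorem check10 : (shapes (-1) 0).all (fun R => search 120 (start R)) = true := by decide +kernel

theorem check11 : (shapes (-1) (-1)).all (fun R => search 120 (start R)) = true := by decide +kernel

/-- The three coordinates of an entry. -/
abbrev pr (l : ℤ × ℤ × ℤ) : ℤ × ℤ := (l.1, l.2.1)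

/-- Sum of a function over a list. -/
abbrev tsum (g : ℤ × ℤ × ℤ → ℤ) (L : List (ℤ × ℤ × ℤ)) : ℤ := (L.map g).sum

theorem go_sound : ∀ (os : List (ℤ × ℤ)) (L : List (ℤ × ℤ × ℤ)) (p q r : ℤ),
    (∀ o ∈ os, o ≠ (0, 0)) → (∀ l ∈ L, pr l ∈ os) →
    tsum (fun l => l.1 * l.1) L = p → tsum (fun l => l.2.1 * l.2.1) L = q →
    tsum (fun l => l.1 * l.2.1) L = r → p ≤ 5 → q ≤ 5 →
    ∃ L' : List (ℤ × ℤ × ℤ), L'.Perm L ∧ L'.map pr ∈ go os p q r
  | [], L, p, q, r, _, hL, hp, hq, hr, _, _ => by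
    cases L with
    | nil =>
      refine ⟨[], List.Perm.refl _, ?_⟩
      subst hp hq hr
      simp [go, tsum]
    | cons l t => exact absurd (hL l List.mem_cons_self) List.not_mem_nil
  | o :: os, L, p, q, r, ho, hL, hp, hq, hr, p5, q5 => by
    set L1 := L.filter fun l => decide (pr l = o) with hL1
    set L2 := L.filter fun l => !decide (pr l = o) with hL2
    have hperm : (L1 ++ L2).Perm L := List.filter_append_perm _ L
    have hsplit : ∀ g, tsum g L = tsum g L1 + tsum g L2 := fun g => by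
      rw [tsum, ← (hperm.map g).sum_eq, List.map_append, List.sum_append]
    have h1 : ∀ l ∈ L1, pr l = o := fun l hl => of_decide_eq_true (List.mem_filter.1 hl).2
    have hsum1 : ∀ (g : ℤ × ℤ → ℤ), tsum (fun l => g (pr l)) L1 = (L1.length : ℤ) * g o := fun g => by
      rw [tsum, List.map_congr_left (g := fun _ => g o) (fun l hl => by rw [h1 l hl]), List.map_const',
        List.sum_replicate, nsmul_eq_mul]
    have a1 := hsum1 fun o => o.1 * o.1
    have a2 := hsum1 fun o => o.2 * o.2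
    have a3 := hsum1 fun o => o.1 * o.2
    simp only [pr] at a1 a2 a3
    have e1 := hsplit fun l => l.1 * l.1
    have e2 := hsplit fun l => l.2.1 * l.2.1
    have e3 := hsplit fun l => l.1 * l.2.1
    have n1 : 0 ≤ tsum (fun l => l.1 * l.1) L2 :=
      List.sum_nonneg fun x hx => by obtain ⟨l, -, rfl⟩ := List.mem_map.1 hx; exact mul_self_nonneg _
    have n2 : 0 ≤ tsum (fun l => l.2.1 * l.2.1) L2 :=
      List.sum_nonneg fun x hx => by obtain ⟨l, -, rfl⟩ := List.mem_map.1 hx; exact mul_self_nonneg _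
    obtain ⟨L', hL'p, hL'm⟩ := go_sound os L2 (p - (L1.length : ℤ) * o.1 * o.1)
      (q - (L1.length : ℤ) * o.2 * o.2) (r - (L1.length : ℤ) * o.1 * o.2)
      (fun x hx => ho x (List.mem_cons_of_mem _ hx))
      (fun l hl => by
        obtain ⟨hlL, hlo⟩ := List.mem_filter.1 hl
        rcases List.mem_cons.1 (hL l hlL) with e | e
        · simp [e] at hlo
        · exact e)
      (by rw [← hp, e1, a1]; ring) (by rw [← hq, e2, a2]; ring) (by rw [← hr, e3, a3]; ring)
      (by nlinarith [mul_self_nonneg o.1, (Int.natCast_nonneg L1.length)])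
      (by nlinarith [mul_self_nonneg o.2, (Int.natCast_nonneg L1.length)])
    refine ⟨L1 ++ L', (hL'p.append_left L1).trans hperm, ?_⟩
    have hk : L1.length < 6 := by
      have hne := ho o List.mem_cons_self
      have : 1 ≤ o.1 * o.1 ∨ 1 ≤ o.2 * o.2 := by
        by_cases h : o.1 = 0
        · refine Or.inr ?_
          have h2 : o.2 ≠ 0 := fun h2 => hne (Prod.ext h h2)
          nlinarith [Int.one_le_abs h2, abs_mul_abs_self o.2]
        · exact Or.inl (by nlinarith [Int.one_le_abs h, abs_mul_abs_self o.1])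
      have hle : (L1.length : ℤ) ≤ 5 := by
        rcases this with h | h <;> nlinarith [Int.natCast_nonneg L1.length]
      omega
    simp only [go, List.mem_flatMap, List.mem_range]
    refine ⟨L1.length, hk, ?_⟩
    rw [if_pos ⟨by nlinarith, by nlinarith⟩]
    refine List.mem_map.2 ⟨L'.map pr, hL'm, ?_⟩
    rw [List.map_append]
    congr 1
    exact (List.eq_replicate_iff.2 ⟨List.length_map _, fun x hx => by
      obtain ⟨l, hl, rfl⟩ := List.mem_map.1 hx
      exact h1 l hl⟩).symm

/-- Linear and rational sums on a starting box. -/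
theorem start_sums (f : Row → ℤ) : ∀ (L : List (ℤ × ℤ × ℤ)),
    qsum f (start (L.map fun l => oRow (pr l))) (L.map fun l => l.2.2) =
        (L.map fun l => (f (oRow (pr l)) : ℚ) / (l.2.2 : ℚ)).sum ∧
      dsum f (start (L.map fun l => oRow (pr l))) (L.map fun l => l.2.2) =
        (L.map fun l => f (oRow (pr l)) * l.2.2).sum
  | [] => by simp [start, qsum, dsum]
  | l :: t => by
    obtain ⟨h1, h2⟩ := start_sums f t
    simp only [start] at h1 h2
    simp only [start, List.map_cons, qsum, dsum, h1, h2, List.sum_cons, and_self]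

/-- The four constraints on the columns force the order 20160. -/
theorem order_eq {y f D : ℤ} {N : ℕ} (L : List (ℤ × ℤ × ℤ))
    (hcan : ∀ l ∈ L, 0 < l.1 ∨ l.1 = 0 ∧ 0 < l.2.1)
    (hP : 3 * y * y + 4 * y + 2 + tsum (fun l => l.1 * l.1) L = 5)
    (hQ : 3 * f * f + 2 * f + 1 + tsum (fun l => l.2.1 * l.2.1) L = 5)
    (hR : 3 * y * f + y + 2 * f + tsum (fun l => l.1 * l.2.1) L = -2)
    (hD : 2 ≤ D.natAbs) (hDc : (64 : ℤ) ∣ D + 27 * (f + 4 * y + 3) + 12 * (3 * f + 1))
    (hd : ∀ l ∈ L, 2 ≤ l.2.2.natAbs ∧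
      (64 : ℤ) ∣ l.2.2 + 27 * (l.2.1 + 4 * l.1) + 36 * l.2.1)
    (hx : (3 * y + 2) * D + tsum (fun l => l.1 * l.2.2) L = 0)
    (he : (3 * f + 1) * D + tsum (fun l => l.2.1 * l.2.2) L = -1)
    (hA : (N : ℚ) * (1 + ((3 * (f + 4 * y + 3) ^ 3 : ℤ) : ℚ) / (D : ℚ) +
      (L.map fun l => (((l.2.1 + 4 * l.1) ^ 3 : ℤ) : ℚ) / (l.2.2 : ℚ)).sum) = 106496)
    (hT : (N : ℚ) * (1 + (((f + 4 * y + 3) ^ 2 * (3 * f + 1) : ℤ) : ℚ) / (D : ℚ) +
      (L.map fun l => (((l.2.1 + 4 * l.1) ^ 2 * l.2.1 : ℤ) : ℚ) / (l.2.2 : ℚ)).sum) = 32768)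
    (hN : 960 ∣ N) (hDN : D.natAbs * D.natAbs ≤ N)
    (hdN : ∀ l ∈ L, l.2.2.natAbs * l.2.2.natAbs ≤ N) : N = 20160 := by
  have n1 : 0 ≤ tsum (fun l => l.1 * l.1) L :=
    List.sum_nonneg fun x hx => by obtain ⟨l, -, rfl⟩ := List.mem_map.1 hx; exact mul_self_nonneg _
  have n2 : 0 ≤ tsum (fun l => l.2.1 * l.2.1) L :=
    List.sum_nonneg fun x hx => by obtain ⟨l, -, rfl⟩ := List.mem_map.1 hx; exact mul_self_nonneg _
  have hy : y = 0 ∨ y = -1 := by
    have h1 : y ≤ 0 := by nlinarith
    have h2 : -1 ≤ y := by nlinarith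
    omega
  have hf : f = 0 ∨ f = -1 := by
    have h1 : f ≤ 0 := by nlinarith
    have h2 : -1 ≤ f := by nlinarith
    omega
  have hp4 : tsum (fun l => l.1 * l.1) L ≤ 4 := by rcases hy with rfl | rfl <;> linarith
  have hq4 : tsum (fun l => l.2.1 * l.2.1) L ≤ 4 := by rcases hf with rfl | rfl <;> linarith
  have hmem : ∀ l ∈ L, pr l ∈ opts := by
    intro l hl
    have s1 : l.1 * l.1 ≤ 4 := le_trans (List.single_le_sum
      (fun x hx => by obtain ⟨m, -, rfl⟩ := List.mem_map.1 hx; exact mul_self_nonneg _) _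
      (List.mem_map.2 ⟨l, hl, rfl⟩)) hp4
    have s2 : l.2.1 * l.2.1 ≤ 4 := le_trans (List.single_le_sum
      (fun x hx => by obtain ⟨m, -, rfl⟩ := List.mem_map.1 hx; exact mul_self_nonneg _) _
      (List.mem_map.2 ⟨l, hl, rfl⟩)) hq4
    have hc := hcan l hl
    obtain ⟨x, e, v⟩ := l
    simp only at s1 s2 hc
    have x1 : -2 ≤ x := by nlinarith
    have x2 : x ≤ 2 := by nlinarith
    have e1 : -2 ≤ e := by nlinarith
    have e2 : e ≤ 2 := by nlinarith
    interval_cases x <;> interval_cases e <;> simp [opts, pr] at hc ⊢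
  obtain ⟨L', hperm, hgo⟩ := go_sound opts L (5 - (3 * y * y + 4 * y + 2))
    (5 - (3 * f * f + 2 * f + 1)) (-2 - 3 * y * f - y - 2 * f) (by decide) hmem (by linarith)
    (by linarith) (by linarith) (by linarith) (by linarith)
  set R := yRow y f :: L'.map fun l => oRow (pr l) with hR'
  have hR : R ∈ shapes y f := List.mem_map.2 ⟨_, hgo, by rw [hR', List.map_map]; rfl⟩
  have hs : search 120 (start R) = true := by
    rcases hy with rfl | rfl <;> rcases hf with rfl | rfl
    · exact List.all_eq_true.1 check00 R hR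
    · exact List.all_eq_true.1 check01 R hR
    · exact List.all_eq_true.1 check10 R hR
    · exact List.all_eq_true.1 check11 R hR
  refine search_sound 120 (L := start R) (ds := D :: L'.map fun l => l.2.2) ?_ ?_ hs
  · refine start_in (List.Forall₂.cons ⟨hD, ?_⟩ ?_)
    · simp only [yRow]; omega
    · refine List.forall₂_map_left_iff.2 (List.forall₂_map_right_iff.2 (List.forall₂_same.2 ?_))
      intro l hl
      obtain ⟨h1, h2⟩ := hd l (hperm.mem_iff.1 hl)
      exact ⟨h1, by simp only [oRow, pr]; omega⟩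
  · have hq : ∀ g : Row → ℤ, qsum g (start R) (D :: L'.map fun l => l.2.2) =
        (g (yRow y f) : ℚ) / (D : ℚ) + (L.map fun l => (g (oRow (pr l)) : ℚ) / (l.2.2 : ℚ)).sum := by
      intro g
      rw [← (hperm.map _).sum_eq, ← (start_sums g L').1]
      rfl
    have hl : ∀ g : Row → ℤ, dsum g (start R) (D :: L'.map fun l => l.2.2) =
        g (yRow y f) * D + (L.map fun l => g (oRow (pr l)) * l.2.2).sum := by
      intro g
      rw [← (hperm.map _).sum_eq, ← (start_sums g L').2]
      rfl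
    refine ⟨?_, ?_, ?_, ?_, hN, ?_⟩
    · rw [hl]; exact hx
    · rw [hl]; exact he
    · rw [hq, ← add_assoc]; exact hA
    · rw [hq, ← add_assoc]; exact hT
    · intro d hd'
      rcases List.mem_cons.1 hd' with rfl | hd'
      · exact hDN
      · obtain ⟨l, hl', rfl⟩ := List.mem_map.1 hd'
        exact hdN l (hperm.mem_iff.1 hl')

end CfsgLib.InvChar.LThreeFour.Search
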