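import Cfsg.Agent.Lib.InvChar.LThreeFour.Count
import Cfsg.Agent.Lib.InvChar.LThreeFour.Shapes

/-!
A non-abelian simple group with an involution whose centraliser has the shape of a Sylow
2-subgroup of the three-dimensional special linear group over four elements has order 20160.
-/

set_option autoImplicit false

namespace CfsgLib.InvChar.LThreeFour

open Subgroup

universe u

variable {ι : Type*} [Fintype ι] [DecidableEq ι]

theorem two_support (p : ι → ℤ) (h : ∑ i, p i * p i = 2) :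
    ∃ i j, i ≠ j ∧ p i * p i = 1 ∧ p j * p j = 1 ∧ ∀ l, l ≠ i → l ≠ j → p l = 0 := by
  have hle : ∀ i, p i * p i ≤ 2 := fun i =>
    h ▸ Finset.single_le_sum (f := fun l => p l * p l) (fun l _ => mul_self_nonneg _)
      (Finset.mem_univ i)
  have h1 : ∀ i, p i ≠ 0 → p i * p i = 1 := fun i hi => by
    have := hle i
    have a : -1 ≤ p i := by nlinarith
    have b : p i ≤ 1 := by nlinarith
    obtain e | e : p i = 1 ∨ p i = -1 := by omega
    all_goals simp [e]
  set S := Finset.univ.filter fun i => p i ≠ 0 with hS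
  have hsum : ∑ i ∈ S, p i * p i = 2 := by
    rw [hS, Finset.sum_filter, ← h]
    exact Finset.sum_congr rfl fun i _ => by by_cases e : p i = 0 <;> simp [e]
  rw [Finset.sum_congr rfl (g := fun _ => (1 : ℤ)) (fun i hi => h1 i (Finset.mem_filter.1 hi).2),
    Finset.sum_const, nsmul_eq_mul, mul_one] at hsum
  obtain ⟨i, j, hij, e⟩ := Finset.card_eq_two.1 (show S.card = 2 by exact_mod_cast hsum)
  have hi : i ∈ S := by rw [e]; simp
  have hj : j ∈ S := by rw [e]; simp
  refine ⟨i, j, hij, h1 i (Finset.mem_filter.1 hi).2, h1 j (Finset.mem_filter.1 hj).2,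
    fun l hl hl' => ?_⟩
  by_contra hne
  have : l ∈ S := Finset.mem_filter.2 ⟨Finset.mem_univ _, hne⟩
  rw [e] at this
  simp [hl, hl'] at this

/-- The three characters that separate the classes of elements of order four. -/
theorem exists_three {p q : ι → ℤ} (hp : ∑ i, p i * p i = 2) (hq : ∑ i, q i * q i = 2)
    (hpq : ∑ i, p i * q i = 1) :
    ∃ i j k, i ≠ j ∧ i ≠ k ∧ j ≠ k ∧ p i * q i = 1 ∧ p j * p j = 1 ∧ q j = 0 ∧
      p k = 0 ∧ q k * q k = 1 ∧ ∀ l, l ≠ i → l ≠ j → l ≠ k → p l = 0 ∧ q l = 0 := by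
  obtain ⟨i, j, hij, hi, hj, hrest⟩ := two_support p hp
  have hs : p i * q i + p j * q j = 1 := by
    rw [← hpq, ← Finset.sum_pair (f := fun l => p l * q l) hij]
    refine Finset.sum_subset (Finset.subset_univ _) fun l _ hl => ?_
    simp only [Finset.mem_insert, Finset.mem_singleton, not_or] at hl
    rw [hrest l hl.1 hl.2, zero_mul]
  obtain ⟨k, k', hkk, hk, hk', hqrest⟩ := two_support q hq
  have key : ∀ i j, i ≠ j → p i * p i = 1 → p j * p j = 1 → (∀ l, l ≠ i → l ≠ j → p l = 0) →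
      p i * q i + p j * q j = 1 → q j = 0 →
      ∃ i j k, i ≠ j ∧ i ≠ k ∧ j ≠ k ∧ p i * q i = 1 ∧ p j * p j = 1 ∧ q j = 0 ∧
        p k = 0 ∧ q k * q k = 1 ∧ ∀ l, l ≠ i → l ≠ j → l ≠ k → p l = 0 ∧ q l = 0 := by
    intro i j hij hi hj hrest hs hqj
    rw [hqj, mul_zero, add_zero] at hs
    have hqi : q i ≠ 0 := fun e => by rw [e, mul_zero] at hs; norm_num at hs
    have hik : i = k ∨ i = k' := by
      by_contra hc
      push Not at hc
      exact hqi (hqrest i hc.1 hc.2)
    rcases hik with rfl | rfl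
    · have hjk : j ≠ k' := fun e => by rw [e] at hqj; rw [hqj] at hk'; norm_num at hk'
      exact ⟨i, j, k', hij, hkk, hjk, hs, hj, hqj, hrest k' hkk.symm hjk.symm, hk',
        fun l h1 h2 h3 => ⟨hrest l h1 h2, hqrest l h1 h3⟩⟩
    · have hjk : j ≠ k := fun e => by rw [e] at hqj; rw [hqj] at hk; norm_num at hk
      exact ⟨i, j, k, hij, hkk.symm, hjk, hs, hj, hqj, hrest k hkk hjk.symm, hk,
        fun l h1 h2 h3 => ⟨hrest l h1 h2, hqrest l h3 h1⟩⟩
  by_cases hqj : q j = 0
  · exact key i j hij hi hj hrest hs hqj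
  by_cases hqi : q i = 0
  · exact key j i hij.symm hj hi (fun l a b => hrest l b a) (by linarith) hqi
  -- both products would be signs
  exfalso
  have hunit : ∀ l, p l * p l = 1 → q l ≠ 0 → p l * q l = 1 ∨ p l * q l = -1 := by
    intro l hl hql
    have : l = k ∨ l = k' := by
      by_contra hc
      push Not at hc
      exact hql (hqrest l hc.1 hc.2)
    have hq1 : q l * q l = 1 := by rcases this with rfl | rfl <;> assumption
    rcases Int.eq_one_or_neg_one_of_mul_eq_one hl with e | e <;>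
      rcases Int.eq_one_or_neg_one_of_mul_eq_one hq1 with e' | e' <;> simp [e, e']
  rcases hunit i hi hqi with a | a <;> rcases hunit j hj hqj with b | b <;> omega

theorem Data.order_eq {N : ℕ} {i0 : ι} {d a : ι → ℤ} {t : Fin 3 → ι → ℤ}
    (D : Data N ι i0 d a t) (hN : 960 ∣ N) : N = 20160 := by
  classical
  let x : Fin 3 → ι → ℤ := fun c l => (a l - t c l) / 4
  let e : ι → ℤ := fun l => (2 * t 0 l + t 1 l + t 2 l) / 4
  have hat : ∀ c l, 4 * x c l = a l - t c l := fun c l => by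
    have h1 := D.cA l; have h2 := D.cH c l
    simp only [x]; omega
  have he4 : ∀ l, 4 * e l = 2 * t 0 l + t 1 l + t 2 l := fun l => by
    have h1 := hat 0 l; have h2 := hat 1 l; have h3 := hat 2 l
    have h4 := D.cT l; have h5 := D.cA l
    simp only [e]; omega
  have sxx : ∀ c c', ∑ l, x c l * x c' l = if c = c' then 5 else 4 := by
    intro c c'
    have h : 16 * ∑ l, x c l * x c' l =
        ∑ l, a l * a l - ∑ l, a l * t c l - ∑ l, a l * t c' l + ∑ l, t c l * t c' l := by
      rw [Finset.mul_sum, ← Finset.sum_sub_distrib, ← Finset.sum_sub_distrib, ← Finset.sum_add_distrib]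
      exact Finset.sum_congr rfl fun l _ => by
        linear_combination (4 * x c' l) * hat c l + (a l - t c l) * hat c' l
    rw [D.aa, D.at', D.at', D.tt] at h
    split_ifs at h ⊢ <;> omega
  have sxe : ∀ c, ∑ l, x c l * e l = if c = 0 then -2 else -1 := by
    intro c
    have h : 16 * ∑ l, x c l * e l = 2 * ∑ l, a l * t 0 l + ∑ l, a l * t 1 l + ∑ l, a l * t 2 l -
        2 * ∑ l, t c l * t 0 l - ∑ l, t c l * t 1 l - ∑ l, t c l * t 2 l := by
      simp only [Finset.mul_sum, ← Finset.sum_sub_distrib, ← Finset.sum_add_distrib]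
      exact Finset.sum_congr rfl fun l _ => by
        linear_combination (4 * e l) * hat c l + (a l - t c l) * he4 l
    rw [D.at', D.at', D.at', D.tt, D.tt, D.tt] at h
    fin_cases c <;> simp at h ⊢ <;> omega
  have see : ∑ l, e l * e l = 6 := by
    have h : 16 * ∑ l, e l * e l = 4 * ∑ l, t 0 l * t 0 l + ∑ l, t 1 l * t 1 l +
        ∑ l, t 2 l * t 2 l + 4 * ∑ l, t 0 l * t 1 l + 4 * ∑ l, t 0 l * t 2 l +
        2 * ∑ l, t 1 l * t 2 l := by
      simp only [Finset.mul_sum, ← Finset.sum_add_distrib]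
      exact Finset.sum_congr rfl fun l _ => by
        linear_combination (4 * e l + (2 * t 0 l + t 1 l + t 2 l)) * he4 l
    rw [D.tt, D.tt, D.tt, D.tt, D.tt, D.tt] at h
    simp at h
    omega
  have sdx : ∀ c, ∑ l, d l * x c l = 0 := by
    intro c
    have h : 4 * ∑ l, d l * x c l = ∑ l, d l * a l - ∑ l, d l * t c l := by
      rw [Finset.mul_sum, ← Finset.sum_sub_distrib]
      exact Finset.sum_congr rfl fun l _ => by linear_combination d l * hat c l
    rw [D.da, D.dt] at h; omega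
  have sde : ∑ l, d l * e l = 0 := by
    have h : 4 * ∑ l, d l * e l =
        2 * ∑ l, d l * t 0 l + ∑ l, d l * t 1 l + ∑ l, d l * t 2 l := by
      simp only [Finset.mul_sum, ← Finset.sum_add_distrib]
      exact Finset.sum_congr rfl fun l _ => by linear_combination d l * he4 l
    rw [D.dt, D.dt, D.dt] at h; omega
  let p : ι → ℤ := fun l => x 0 l - x 1 l
  let q : ι → ℤ := fun l => x 0 l - x 2 l
  have hexp : ∀ (α β γ δ : ι → ℤ), ∑ l, (α l - β l) * (γ l - δ l) =
      ∑ l, α l * γ l - ∑ l, α l * δ l - ∑ l, β l * γ l + ∑ l, β l * δ l := fun α β γ δ => by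
    rw [← Finset.sum_sub_distrib, ← Finset.sum_sub_distrib, ← Finset.sum_add_distrib]
    exact Finset.sum_congr rfl fun l _ => by ring
  obtain ⟨i, j, k, hij, hik, hjk, hpi, hpj, hqj, hpk, hqk, hrest⟩ :=
    exists_three (p := p) (q := q)
      (by simp only [p]; rw [hexp, sxx, sxx, sxx, sxx]; simp)
      (by simp only [q]; rw [hexp, sxx, sxx, sxx, sxx]; simp)
      (by simp only [p, q]; rw [hexp, sxx, sxx, sxx, sxx]; simp)
  -- signs
  let s : ι → ℤ := fun l => if l = i then -p i else if l = j then p j else if l = k then q k else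
    if 0 < x 0 l ∨ x 0 l = 0 ∧ 0 ≤ e l then 1 else -1
  have hpi2 : p i * p i = 1 := by
    rcases Int.eq_one_or_neg_one_of_mul_eq_one hpi with h | h <;> simp [h]
  have hqi : q i = p i := by
    calc q i = (p i * p i) * q i := by rw [hpi2, one_mul]
      _ = p i * (p i * q i) := by ring
      _ = p i := by rw [hpi, mul_one]
  have hs2 : ∀ l, s l * s l = 1 := fun l => by
    simp only [s]; split_ifs <;> simp_all
  have hsi : s i = -p i := by simp [s]
  have hsj : s j = p j := by simp [s, hij.symm]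
  have hsk : s k = q k := by simp [s, hik.symm, hjk.symm]
  let X : Fin 3 → ι → ℤ := fun c l => s l * x c l
  let E : ι → ℤ := fun l => s l * e l
  let Dg : ι → ℤ := fun l => s l * d l
  have hsq : ∀ (α β : ι → ℤ) l, (s l * α l) * (s l * β l) = α l * β l := fun α β l => by
    linear_combination (α l * β l) * hs2 l
  have hpq1 : ∀ (α : ι → ℤ), ∑ l, p l * α l = p i * α i + p j * α j := fun α => by
    rw [← Finset.sum_pair (f := fun l => p l * α l) hij]
    refine (Finset.sum_subset (Finset.subset_univ _) fun l _ hl => ?_).symm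
    simp only [Finset.mem_insert, Finset.mem_singleton, not_or] at hl
    by_cases hlk : l = k
    · rw [hlk, hpk, zero_mul]
    · rw [(hrest l hl.1 hl.2 hlk).1, zero_mul]
  have hpq2 : ∀ (α : ι → ℤ), ∑ l, q l * α l = q i * α i + q k * α k := fun α => by
    rw [← Finset.sum_pair (f := fun l => q l * α l) hik]
    refine (Finset.sum_subset (Finset.subset_univ _) fun l _ hl => ?_).symm
    simp only [Finset.mem_insert, Finset.mem_singleton, not_or] at hl
    by_cases hlj : l = j
    · rw [hlj, hqj, zero_mul]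
    · rw [(hrest l hl.1 hlj hl.2).2, zero_mul]
  have hlin : ∀ (α β γ : ι → ℤ), ∑ l, (α l - β l) * γ l = ∑ l, α l * γ l - ∑ l, β l * γ l :=
    fun α β γ => by
      rw [← Finset.sum_sub_distrib]; exact Finset.sum_congr rfl fun l _ => by ring
  have P2 : p i * x 2 i + p j * x 2 j = 0 := by
    rw [← hpq1]; simp only [p]; rw [hlin, sxx, sxx]; simp
  have Q1 : q i * x 1 i + q k * x 1 k = 0 := by
    rw [← hpq2]; simp only [q]; rw [hlin, sxx, sxx]; simp
  have Pe : p i * e i + p j * e j = -1 := by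
    rw [← hpq1]; simp only [p]; rw [hlin, sxe, sxe]; simp
  have Qe : q i * e i + q k * e k = -1 := by
    rw [← hpq2]; simp only [q]; rw [hlin, sxe, sxe]; simp
  have Pd : p i * d i + p j * d j = 0 := by
    rw [← hpq1]; simp only [p]; rw [hlin]
    simp only [mul_comm _ (d _)]; rw [sdx, sdx]; simp
  have Qd : q i * d i + q k * d k = 0 := by
    rw [← hpq2]; simp only [q]; rw [hlin]
    simp only [mul_comm _ (d _)]; rw [sdx, sdx]; simp
  set y := X 0 i with hy
  set f := E j with hf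
  have hxi1 : x 1 i = x 0 i - p i := by simp [p]
  have hxi2 : x 2 i = x 0 i - p i := by rw [← hqi]; simp [q]
  have hxj1 : x 1 j = x 0 j - p j := by simp [p]
  have hxj2 : x 2 j = x 0 j := by have := hqj; simp only [q] at this; omega
  have hxk1 : x 1 k = x 0 k := by have := hpk; simp only [p] at this; omega
  have hxk2 : x 2 k = x 0 k - q k := by simp [q]
  have Xi1 : X 1 i = y + 1 := by
    simp only [y, X, hsi, hxi1]; linear_combination hpi2
  have Xi2 : X 2 i = y + 1 := by
    simp only [y, X, hsi, hxi2]; linear_combination hpi2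
  have Xj0 : X 0 j = y + 1 := by
    simp only [y, X, hsi, hsj]; rw [hxi2, hxj2] at P2; linear_combination P2 + hpi2
  have Xj1 : X 1 j = y := by
    have := Xj0; simp only [X, hsj] at this ⊢; rw [hxj1]; linear_combination this - hpj
  have Xj2 : X 2 j = y + 1 := by
    rw [← Xj0]; simp only [X, hxj2]
  have Xk0 : X 0 k = y + 1 := by
    simp only [y, X, hsi, hsk]; rw [hxi1, hxk1, hqi] at Q1; linear_combination Q1 + hpi2
  have Xk1 : X 1 k = y + 1 := by rw [← Xk0]; simp only [X, hxk1]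
  have Xk2 : X 2 k = y := by
    have := Xk0; simp only [X, hsk] at this ⊢; rw [hxk2]; linear_combination this - hqk
  have Ei : E i = f + 1 := by
    simp only [f, E, hsi, hsj]; linear_combination -Pe
  have Ek : E k = f := by
    rw [hqi] at Qe; simp only [f, E, hsj, hsk]; linear_combination Qe - Pe
  have Dj : Dg j = Dg i := by simp only [Dg, hsi, hsj]; linear_combination Pd
  have Dk : Dg k = Dg i := by rw [hqi] at Qd; simp only [Dg, hsi, hsk]; linear_combination Qd
  -- values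
  have hA : ∀ l, s l * a l = E l + 2 * X 0 l + X 1 l + X 2 l := fun l => by
    have h1 := hat 0 l; have h2 := hat 1 l; have h3 := hat 2 l; have h4 := he4 l
    have : a l = e l + 2 * x 0 l + x 1 l + x 2 l := by omega
    simp only [E, X]; linear_combination (s l) * this
  have hT : ∀ c l, s l * t c l = s l * a l - 4 * X c l := fun c l => by
    simp only [X]; linear_combination (s l) * hat c l
  have hE0 : x 0 i0 = 0 ∧ x 1 i0 = 0 ∧ x 2 i0 = 0 ∧ e i0 = 1 := by
    have h1 := hat 0 i0; have h2 := hat 1 i0; have h3 := hat 2 i0; have h4 := he4 i0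
    rw [D.a0, D.t0] at h1 h2 h3; rw [D.t0, D.t0, D.t0] at h4
    omega
  have hp0 : p i0 = 0 ∧ q i0 = 0 := by simp [p, q, hE0.1, hE0.2.1, hE0.2.2.1]
  have hi0 : i0 ≠ i ∧ i0 ≠ j ∧ i0 ≠ k := by
    refine ⟨?_, ?_, ?_⟩ <;> intro h <;> subst h
    · rw [hp0.1] at hpi2; norm_num at hpi2
    · rw [hp0.1] at hpj; norm_num at hpj
    · rw [hp0.2] at hqk; norm_num at hqk
  have hs0 : s i0 = 1 := by simp [s, hi0.1, hi0.2.1, hi0.2.2, hE0.1, hE0.2.2.2]
  set R := Finset.univ.filter fun l => l ≠ i ∧ l ≠ j ∧ l ≠ k ∧ l ≠ i0 ∧ ¬ (x 0 l = 0 ∧ e l = 0)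
    with hR
  have hsum : ∀ {M : Type} [AddCommMonoid M] (F : ι → M), (∀ l, l ≠ i → l ≠ j → l ≠ k → l ≠ i0 →
      x 0 l = 0 → e l = 0 → F l = 0) → ∑ l, F l = F i + (F j + (F k + (F i0 + ∑ l ∈ R, F l))) := by
    intro M _ F hF
    rw [← Finset.sum_subset (Finset.subset_univ (insert i (insert j (insert k (insert i0 R)))))
      fun l _ hl => ?_]
    · rw [Finset.sum_insert, Finset.sum_insert, Finset.sum_insert, Finset.sum_insert] <;>
        simp [hR, hij, hik, hjk, hi0.1, hi0.2.1, hi0.2.2, hi0.1.symm, hi0.2.1.symm, hi0.2.2.symm]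
    · simp only [Finset.mem_insert, hR, Finset.mem_filter, Finset.mem_univ, true_and, not_or] at hl
      obtain ⟨h1, h2, h3, h4, h5⟩ := hl
      have h6 : x 0 l = 0 ∧ e l = 0 := by_contra fun hc => h5 ⟨h1, h2, h3, h4, hc⟩
      exact hF l h1 h2 h3 h4 h6.1 h6.2
  have hX : ∀ l ∈ R, X 1 l = X 0 l ∧ X 2 l = X 0 l := fun l hl => by
    simp only [hR, Finset.mem_filter] at hl
    obtain ⟨hp', hq'⟩ := hrest l hl.2.1 hl.2.2.1 hl.2.2.2.1
    simp only [p, q] at hp' hq'
    constructor <;> simp only [X] <;> congr 1 <;> omega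
  have haR : ∀ l ∈ R, s l * a l = E l + 4 * X 0 l := fun l hl => by
    rw [hA, (hX l hl).1, (hX l hl).2]; ring
  have htR : ∀ c, ∀ l ∈ R, s l * t c l = E l := fun c l hl => by
    have : X c l = X 0 l := by fin_cases c <;> simp [(hX l hl).1, (hX l hl).2]
    rw [hT, haR l hl, this]; ring
  have hz0 : ∀ l, l ≠ i → l ≠ j → l ≠ k → x 0 l = 0 → e l = 0 → a l = 0 := by
    intro l h1 h2 h3 h4 h5
    obtain ⟨hp', hq'⟩ := hrest l h1 h2 h3
    simp only [p, q] at hp' hq'
    have := hat 0 l; have := hat 1 l; have := hat 2 l; have := he4 l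
    omega
  let L : List (ℤ × ℤ × ℤ) := R.toList.map fun l => (X 0 l, E l, Dg l)
  have hL : ∀ {M : Type} [AddCommMonoid M] (g : ℤ × ℤ × ℤ → M),
      (L.map g).sum = ∑ l ∈ R, g (X 0 l, E l, Dg l) := by
    intro M _ g
    rw [List.map_map]
    exact Finset.sum_map_toList R _
  have aY : ∀ l, l = i ∨ l = j ∨ l = k → s l * a l = f + 4 * y + 3 := by
    rintro l (rfl | rfl | rfl) <;> rw [hA]
    · rw [Ei, Xi1, Xi2]; ring
    · rw [Xj0, Xj1, Xj2]; ring
    · rw [Ek, Xk0, Xk1, Xk2]; ring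
  have tY : s i * t 0 i = f + 3 ∧ s j * t 0 j = f - 1 ∧ s k * t 0 k = f - 1 := by
    refine ⟨?_, ?_, ?_⟩
    · rw [hT, aY i (Or.inl rfl)]; ring
    · rw [hT, aY j (Or.inr (Or.inl rfl)), Xj0]; ring
    · rw [hT, aY k (Or.inr (Or.inr rfl)), Xk0]; ring
  have hdl : ∀ l, l ≠ i0 → 2 ≤ (Dg l).natAbs := fun l hl => by
    rw [show (Dg l).natAbs = (d l).natAbs by
      rcases Int.eq_one_or_neg_one_of_mul_eq_one (hs2 l) with h | h <;> simp [Dg, h]]
    have := D.big l hl; omega
  have hdN : ∀ l, (Dg l).natAbs * (Dg l).natAbs ≤ N := fun l => by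
    have h1 := Finset.single_le_sum (f := fun l => d l * d l) (fun l _ => mul_self_nonneg _)
      (Finset.mem_univ l)
    rw [D.sq, ← hsq d d l] at h1
    exact_mod_cast (Int.natAbs_mul_self (a := Dg l)).trans_le h1
  have hcong : ∀ l, (64 : ℤ) ∣ Dg l + 27 * (s l * a l) +
      12 * (s l * t 0 l + s l * t 1 l + s l * t 2 l) := fun l => by
    have h := (D.cT l).mul_left (s l)
    have e' : s l * (d l + 27 * a l + 12 * (t 0 l + t 1 l + t 2 l)) = Dg l + 27 * (s l * a l) +
        12 * (s l * t 0 l + s l * t 1 l + s l * t 2 l) := by simp only [Dg]; ring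
    rwa [e'] at h
  have hq3 : ∀ (α β : ι → ℤ), ((s i0 * α i0) * (s i0 * β i0)) = α i0 * β i0 := fun α β => hsq α β i0
  refine Search.order_eq (y := y) (f := f) (D := Dg i) L ?_ ?_ ?_ ?_ (hdl i hi0.1.symm) ?_ ?_ ?_ ?_
    ?_ ?_ hN (hdN i) ?_
  · intro l hl
    obtain ⟨m, hm, rfl⟩ := List.mem_map.1 hl
    rw [Finset.mem_toList, hR, Finset.mem_filter] at hm
    obtain ⟨-, h1, h2, h3, -, h5⟩ := hm
    show 0 < s m * x 0 m ∨ s m * x 0 m = 0 ∧ 0 < s m * e m
    have hsm : s m = if 0 < x 0 m ∨ x 0 m = 0 ∧ 0 ≤ e m then 1 else -1 := by simp [s, h1, h2, h3]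
    rw [hsm]
    split_ifs <;> omega
  · have h := sxx 0 0
    rw [if_pos rfl, hsum _ (fun l _ _ _ _ h0 _ => by simp [h0]), hE0.1] at h
    rw [show (fun l : ℤ × ℤ × ℤ => l.1 * l.1) = fun l => l.1 * l.1 from rfl, Search.tsum, hL]
    simp only [← hsq (x 0) (x 0)] at h
    change X 0 i * X 0 i + (X 0 j * X 0 j + (X 0 k * X 0 k + (0 * 0 + ∑ l ∈ R, X 0 l * X 0 l))) = 5
      at h
    rw [← hy, Xj0, Xk0] at h
    linear_combination h
  · have h := see
    rw [hsum _ (fun l _ _ _ _ _ h0 => by simp [h0]), hE0.2.2.2] at h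
    rw [Search.tsum, hL]
    simp only [← hsq e e] at h
    change E i * E i + (E j * E j + (E k * E k + (1 * 1 + ∑ l ∈ R, E l * E l))) = 6 at h
    rw [Ei, Ek, ← hf] at h
    linear_combination h
  · have h := sxe 0
    rw [if_pos rfl, hsum _ (fun l _ _ _ _ _ h0 => by simp [h0]), hE0.1, zero_mul] at h
    rw [Search.tsum, hL]
    simp only [← hsq (x 0) e] at h
    change X 0 i * E i + (X 0 j * E j + (X 0 k * E k + (0 + ∑ l ∈ R, X 0 l * E l))) = -2 at h
    rw [← hy, Ei, Xj0, Xk0, Ek, ← hf] at h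
    linear_combination h
  · have h := hcong i
    rw [hT 1, hT 2, tY.1, aY i (Or.inl rfl), Xi1, Xi2] at h
    have e' : Dg i + 27 * (f + 4 * y + 3) + 12 * (3 * f + 1) = Dg i + 27 * (f + 4 * y + 3) +
        12 * (f + 3 + (f + 4 * y + 3 - 4 * (y + 1)) + (f + 4 * y + 3 - 4 * (y + 1))) := by ring
    rwa [e']
  · intro l hl
    obtain ⟨m, hm, rfl⟩ := List.mem_map.1 hl
    have hm' := Finset.mem_toList.1 hm
    have hmem := hm'
    rw [hR, Finset.mem_filter] at hm'
    refine ⟨hdl m hm'.2.2.2.2.1, ?_⟩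
    have h := hcong m
    rw [haR m hmem, htR 0 m hmem, htR 1 m hmem, htR 2 m hmem] at h
    have e' : Dg m + 27 * (E m + 4 * X 0 m) + 36 * E m =
        Dg m + 27 * (E m + 4 * X 0 m) + 12 * (E m + E m + E m) := by ring
    show (64 : ℤ) ∣ Dg m + 27 * (E m + 4 * X 0 m) + 36 * E m
    rwa [e']
  · have h := sdx 0
    rw [hsum _ (fun l _ _ _ _ h0 _ => by simp [h0]), hE0.1, mul_zero] at h
    rw [Search.tsum, hL]
    simp only [← hsq d (x 0)] at h
    change Dg i * X 0 i + (Dg j * X 0 j + (Dg k * X 0 k + (0 + ∑ l ∈ R, Dg l * X 0 l))) = 0 at h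
    rw [← hy, Dj, Dk, Xj0, Xk0] at h
    rw [Finset.sum_congr rfl fun l _ => mul_comm (X 0 l) (Dg l)]
    linear_combination h
  · have h := sde
    rw [hsum _ (fun l _ _ _ _ _ h0 => by simp [h0]), hE0.2.2.2, D.d0] at h
    rw [Search.tsum, hL]
    simp only [← hsq d e] at h
    change Dg i * E i + (Dg j * E j + (Dg k * E k + (1 * 1 + ∑ l ∈ R, Dg l * E l))) = 0 at h
    rw [Dj, Dk, Ei, Ek, ← hf] at h
    rw [Finset.sum_congr rfl fun l _ => mul_comm (E l) (Dg l)]
    linear_combination h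
  · have h := D.Sa
    have hF : ∀ l, (a l : ℚ) ^ 3 / (d l : ℚ) = ((s l * a l : ℤ) : ℚ) ^ 3 / (Dg l : ℚ) := fun l => by
      rcases Int.eq_one_or_neg_one_of_mul_eq_one (hs2 l) with h | h <;>
        simp [Dg, h, div_neg, neg_div, (show Odd 3 by decide).neg_pow]
    rw [hsum _ (fun l h1 h2 h3 _ h4 h5 => by simp [hz0 l h1 h2 h3 h4 h5]), D.a0, D.d0, hF i, hF j,
      hF k, aY i (Or.inl rfl), aY j (Or.inr (Or.inl rfl)), aY k (Or.inr (Or.inr rfl)), Dj, Dk,
      Finset.sum_congr rfl fun l hl => (hF l).trans (by rw [haR l hl])] at h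
    rw [hL]
    push_cast at h ⊢
    linear_combination h
  · have h := D.St
    have hF : ∀ l, (a l : ℚ) ^ 2 * (t 0 l : ℚ) / (d l : ℚ) =
        ((s l * a l : ℤ) : ℚ) ^ 2 * ((s l * t 0 l : ℤ) : ℚ) / (Dg l : ℚ) := fun l => by
      rcases Int.eq_one_or_neg_one_of_mul_eq_one (hs2 l) with h | h <;>
        simp [Dg, h, div_neg, neg_div]
    rw [hsum _ (fun l h1 h2 h3 _ h4 h5 => by simp [hz0 l h1 h2 h3 h4 h5]), D.a0, D.t0, D.d0, hF i,
      hF j, hF k, aY i (Or.inl rfl), aY j (Or.inr (Or.inl rfl)), aY k (Or.inr (Or.inr rfl)),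
      tY.1, tY.2.1, tY.2.2, Dj, Dk,
      Finset.sum_congr rfl fun l hl => (hF l).trans (by rw [haR l hl, htR 0 l hl])] at h
    rw [hL]
    push_cast at h ⊢
    linear_combination h
  · intro l hl
    obtain ⟨m, hm, rfl⟩ := List.mem_map.1 hl
    exact hdN m

namespace Flag

variable {G : Type u} [Group G] {z : G} {T A B V : Subgroup G}

/-- The normaliser of `A` has order 960. -/
theorem card_normalizer_A [Finite G] [IsSimpleGroup G] (hG : ¬ IsMulCommutative G)
    (F : Flag z T A B V) : Nat.card ↥(normalizer (A : Set G)) = 960 := by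
  have he : {x : G | x ∈ A ∧ IsConj z x} = (A : Set G) \ {1} := by
    ext x
    exact ⟨fun h => ⟨h.1, fun e => F.z_ne (isConj_one_left.1 (e ▸ h.2))⟩,
      fun h => ⟨h.1, F.all_A hG x h.1 h.2⟩⟩
  rw [← F.card_normalizer, he, Set.ncard_sdiff_singleton_of_mem (one_mem A), ← Nat.card_coe_set_eq,
    SetLike.coe_sort_coe, F.cardA]

/-- The order is that of the three-dimensional special linear group over four elements modulo
scalars, and there is one class of involutions. -/
theorem card_eq [Finite G] [IsSimpleGroup G] (hG : ¬ IsMulCommutative G) (F : Flag z T A B V) :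
    Nat.card G = 20160 ∧ ∀ x y : G, orderOf x = 2 → orderOf y = 2 → IsConj x y := by
  refine ⟨?_, fun x y hx hy => (F.one_class hG hx).symm.trans (F.one_class hG hy)⟩
  obtain ⟨m, a, c, K⟩ := F.exists_frame hG
  obtain ⟨ι, _, _, i0, d, f, t, D⟩ := K.exists_data hG
  exact D.order_eq (F.card_normalizer_A hG ▸ Subgroup.card_subgroup_dvd_card _)

end Flag

end CfsgLib.InvChar.LThreeFour
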