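import Mathlib.Tactic
import Mathlib.Data.List.Forall2

/-!
A verified branch-and-bound for signed degrees with fixed residues modulo 64 subject to two
linear equations and two class multiplication equations.
-/

set_option autoImplicit false

namespace CfsgLib.InvChar.LThreeFour.Search

/-- The scale of the fixed point bounds. -/
def scale : ℤ := 1099511627776

/-- One unknown: its weights in the two rational sums, its residue, its two linear coefficients. -/
structure Row where
  wa : ℤ
  wt : ℤ
  c : ℕ
  cx : ℤ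
  ce : ℤ

/-- A domain for an unknown: a sign, if known, and bounds for the absolute value. -/
structure Dom where
  sgn : Option Bool
  lo : ℕ
  hi : Option ℕ
deriving DecidableEq

/-- The residue of the absolute value. -/
def res (r : Row) : Bool → ℕ
  | true => (64 - r.c) % 64
  | false => r.c

/-- The least admissible absolute value above `lo`. -/
def lift (r : Row) (b : Bool) (lo : ℕ) : ℕ :=
  let l := max lo 2
  l + (res r b + 64 - l % 64) % 64

/-- The meaning of a domain. -/
def Mem (r : Row) (D : Dom) (d : ℤ) : Prop :=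
  2 ≤ d.natAbs ∧ d % 64 = (r.c : ℤ) ∧ (∀ b, D.sgn = some b → (b = true ↔ d < 0)) ∧
    D.lo ≤ d.natAbs ∧ ∀ h, D.hi = some h → d.natAbs ≤ h

/-- Bounds for a scaled quotient by an absolute value in `[lo, hi]`. -/
def rng1 (u : ℤ) (lo : ℕ) (hi : Option ℕ) : ℤ × ℤ :=
  let l := u * scale
  let f : ℤ := match hi with
    | none => 0
    | some h => Int.fdiv l h
  let c : ℤ := match hi with
    | none => 0
    | some h => -Int.fdiv (-l) h
  if 0 ≤ u then (f, -Int.fdiv (-l) lo) else (Int.fdiv l lo, c)

/-- Bounds for `scale * w / d` on a domain. -/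
def rng (r : Row) (w : ℤ) (D : Dom) : ℤ × ℤ :=
  match D.sgn with
  | some true => rng1 (-w) (lift r true D.lo) D.hi
  | some false => rng1 w (lift r false D.lo) D.hi
  | none =>
    let p := rng1 w (lift r false D.lo) D.hi
    let q := rng1 (-w) (lift r true D.lo) D.hi
    (min p.1 q.1, max p.2 q.2)

/-- Bounds for `k * d` on a domain. -/
def lin (r : Row) (k : ℤ) (D : Dom) : Option ℤ × Option ℤ :=
  if k = 0 then (some 0, some 0) else
  match D.sgn with
  | none => (none, none)
  | some b =>
    let u := if b then -k else k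
    let l := u * (lift r b D.lo : ℤ)
    let h := D.hi.map fun h => u * (h : ℤ)
    if 0 ≤ u then (some l, h) else (h, some l)

/-- Lower and upper bounds of a rational sum. -/
def rsum (f : Row → ℤ) : List (Row × Dom) → ℤ × ℤ
  | [] => (0, 0)
  | p :: t => ((rng p.1 (f p.1) p.2).1 + (rsum f t).1, (rng p.1 (f p.1) p.2).2 + (rsum f t).2)

/-- Sum of two optional bounds. -/
def oadd : Option ℤ → Option ℤ → Option ℤ
  | some a, some b => some (a + b)
  | _, _ => none

/-- Lower and upper bounds of a linear form. -/
def lsum (f : Row → ℤ) : List (Row × Dom) → Option ℤ × Option ℤ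
  | [] => (some 0, some 0)
  | p :: t => (oadd (lin p.1 (f p.1) p.2).1 (lsum f t).1, oadd (lin p.1 (f p.1) p.2).2 (lsum f t).2)

/-- A linear form cannot take the value. -/
def excl (p : Option ℤ × Option ℤ) (v : ℤ) : Bool :=
  (p.1.elim false fun l => decide (v < l)) || (p.2.elim false fun h => decide (h < v))

/-- An empty domain. -/
def empty (p : Row × Dom) : Bool :=
  match p.2.sgn, p.2.hi with
  | some b, some h => decide (h < lift p.1 b p.2.lo)
  | none, some h => decide (h < lift p.1 true p.2.lo) && decide (h < lift p.1 false p.2.lo)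
  | _, none => false

/-- The box contains no solution. -/
def prune (L : List (Row × Dom)) : Bool :=
  L.any empty ||
  decide (scale + (rsum Row.wa L).2 ≤ 0) || decide (scale + (rsum Row.wt L).2 ≤ 0) ||
  decide (0 < (8 - 26) * scale + (rsum (fun r => 8 * r.wa - 26 * r.wt) L).1) ||
  decide ((8 - 26) * scale + (rsum (fun r => 8 * r.wa - 26 * r.wt) L).2 < 0) ||
  excl (lsum Row.cx L) 0 || excl (lsum Row.ce L) (-1)

/-- The value of a one point domain. -/
def val (p : Row × Dom) : Option ℤ :=
  match p.2.sgn, p.2.hi with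
  | some b, some h =>
    if h < lift p.1 b p.2.lo + 64 then
      some (if b then -(lift p.1 b p.2.lo : ℤ) else (lift p.1 b p.2.lo : ℤ))
    else none
  | _, _ => none

/-- The values, if all domains are points. -/
def vals : List (Row × Dom) → Option (List ℤ)
  | [] => some []
  | p :: t => match val p, vals t with
    | some v, some vs => some (v :: vs)
    | _, _ => none

/-- A sum of quotients as one quotient. -/
def frac (f : Row → ℤ) : List (Row × Dom) → List ℤ → ℤ × ℤ
  | p :: t, d :: ds => (f p.1 * (frac f t ds).2 + d * (frac f t ds).1, d * (frac f t ds).2)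
  | _, _ => (0, 1)

/-- A point is no solution or gives the order 20160. -/
def leaf (L : List (Row × Dom)) (ds : List ℤ) : Bool :=
  let a := frac Row.wa L ds
  let t := frac Row.wt L ds
  let A := a.1 + a.2
  let T := t.1 + t.2
  decide (8 * A ≠ 26 * T) || decide (32768 * t.2 % T ≠ 0) ||
    decide ((32768 * t.2 / T) % 960 ≠ 0) || decide (32768 * t.2 / T = 20160)

/-- An integer square root guess. -/
def isq (n : ℕ) : ℕ :=
  [4096, 2048, 1024, 512, 256, 128, 64, 32, 16, 8, 4, 2, 1].foldl
    (fun r b => if (r + b) * (r + b) ≤ n then r + b else r) 0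

/-- A bound for all absolute values. -/
def bound (L : List (Row × Dom)) : Option ℕ :=
  let tl := scale + (rsum Row.wt L).1
  if 0 < tl then
    let n := (32768 * scale / tl).toNat
    let D := isq n
    if n < (D + 1) * (D + 1) then some D else none
  else none

/-- Lower an upper bound. -/
def clipTo (D : ℕ) (p : Row × Dom) : Row × Dom :=
  (p.1, { p.2 with hi := some (match p.2.hi with
    | none => D
    | some h => min h D) })

/-- A cover of one domain. -/
def parts (p : Row × Dom) : List (Row × Dom) :=
  match p.2.sgn with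
  | none => [(p.1, { p.2 with sgn := some true }), (p.1, { p.2 with sgn := some false })]
  | some b =>
    let l := lift p.1 b p.2.lo
    match p.2.hi with
    | none => [(p.1, ⟨some b, l, some l⟩), (p.1, ⟨some b, l + 64, none⟩)]
    | some h =>
      let m := l + (h - l) / 128 * 64
      [(p.1, ⟨some b, l, some m⟩), (p.1, ⟨some b, m + 1, some h⟩)]

/-- A cover of a box at one place. -/
def branch : ℕ → List (Row × Dom) → List (List (Row × Dom))
  | _, [] => [[]]
  | 0, p :: t => (parts p).map (· :: t)
  | n + 1, p :: t => (branch n t).map (p :: ·)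

/-- The priority of an unknown for branching. -/
def score (p : Row × Dom) : ℤ :=
  match val p with
  | some _ => -1
  | none =>
    let a := rng p.1 p.1.wa p.2
    let t := rng p.1 p.1.wt p.2
    max (max (a.2 - a.1) (t.2 - t.1)) 0

/-- The place of the highest score. -/
def best : List (Row × Dom) → ℕ → ℕ → ℤ → ℕ
  | [], _, b, _ => b
  | p :: t, i, b, v => if v < score p then best t (i + 1) i (score p) else best t (i + 1) b v

/-- The branch-and-bound. -/
def search : ℕ → List (Row × Dom) → Bool
  | 0, _ => false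
  | n + 1, L =>
    prune L || match vals L with
      | some ds => leaf L ds
      | none =>
        match (bound L).map fun D => L.map (clipTo D) with
        | some L' =>
          if (L'.map Prod.snd) = (L.map Prod.snd) then
            (branch (best L 0 0 (-2)) L).all (search n)
          else search n L'
        | none => (branch (best L 0 0 (-2)) L).all (search n)

/-- The initial box. -/
def start (R : List Row) : List (Row × Dom) := R.map fun r => (r, ⟨none, 2, none⟩)

/-! ### Soundness -/

theorem res_eq {r : Row} {D : Dom} {d : ℤ} (h : Mem r D d) :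
    d.natAbs % 64 = res r (decide (d < 0)) := by
  obtain ⟨h2, hc, -, -, -⟩ := h
  rcases lt_or_ge d 0 with hd | hd
  · rw [decide_eq_true hd]; simp only [res]; omega
  · rw [decide_eq_false (not_lt.2 hd)]; simp only [res]; omega

theorem lift_le {r : Row} {D : Dom} {d : ℤ} (h : Mem r D d) :
    lift r (decide (d < 0)) D.lo ≤ d.natAbs := by
  have h1 := res_eq h
  obtain ⟨h2, -, -, h4, -⟩ := h
  simp only [lift]
  generalize res r (decide (d < 0)) = q at h1 ⊢
  omega

theorem two_le_lift (r : Row) (b : Bool) (lo : ℕ) : 2 ≤ lift r b lo := by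
  simp only [lift]; omega

theorem fdiv_le (l : ℤ) {h : ℕ} (hh : 0 < h) : (Int.fdiv l h : ℚ) ≤ (l : ℚ) / h := by
  rw [Int.fdiv_eq_ediv_of_nonneg _ (Int.natCast_nonneg h), le_div_iff₀ (by exact_mod_cast hh)]
  have := Int.ediv_mul_le l (show (h : ℤ) ≠ 0 by omega)
  exact_mod_cast this

theorem le_neg_fdiv (l : ℤ) {h : ℕ} (hh : 0 < h) : (l : ℚ) / h ≤ ((-Int.fdiv (-l) h : ℤ) : ℚ) := by
  have := fdiv_le (-l) hh
  push_cast at this ⊢
  rw [neg_div] at this
  linarith

theorem rng1_sound (u : ℤ) {lo : ℕ} {hi : Option ℕ} {e : ℕ} (hlo : 0 < lo) (h1 : lo ≤ e)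
    (h2 : ∀ h, hi = some h → e ≤ h) :
    ((rng1 u lo hi).1 : ℚ) ≤ (scale : ℚ) * u / e ∧
      (scale : ℚ) * u / e ≤ ((rng1 u lo hi).2 : ℚ) := by
  have he : (0 : ℚ) < e := by exact_mod_cast lt_of_lt_of_le hlo h1
  have hl : (0 : ℚ) < lo := by exact_mod_cast hlo
  have hs : (0 : ℚ) ≤ (scale : ℚ) := by norm_num [scale]
  have hle : (lo : ℚ) ≤ e := by exact_mod_cast h1
  have e0 : (scale : ℚ) * u = ((u * scale : ℤ) : ℚ) := by push_cast; ring
  by_cases hu : 0 ≤ u
  · have hq : (0 : ℚ) ≤ (scale : ℚ) * u := mul_nonneg hs (by exact_mod_cast hu)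
    simp only [rng1, if_pos hu]
    refine ⟨?_, ?_⟩
    · cases hi with
      | none => simpa using div_nonneg hq he.le
      | some h =>
        have hh : 0 < h := lt_of_lt_of_le hlo (h1.trans (h2 h rfl))
        refine (fdiv_le _ hh).trans ?_
        rw [← e0]
        exact div_le_div_of_nonneg_left hq he (by exact_mod_cast h2 h rfl)
    · refine le_trans ?_ (le_neg_fdiv _ hlo)
      rw [← e0]
      exact div_le_div_of_nonneg_left hq hl hle
  · have hq : 0 ≤ -((scale : ℚ) * u) := by
      rw [← mul_neg]
      exact mul_nonneg hs (by exact_mod_cast (show (0 : ℤ) ≤ -u by omega))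
    simp only [rng1, if_neg hu]
    refine ⟨?_, ?_⟩
    · refine (fdiv_le _ hlo).trans ?_
      rw [← e0]
      have := div_le_div_of_nonneg_left hq hl hle
      rw [neg_div, neg_div] at this
      linarith
    · cases hi with
      | none =>
        have := div_nonneg hq he.le
        rw [neg_div] at this
        simpa using this
      | some h =>
        have hh : 0 < h := lt_of_lt_of_le hlo (h1.trans (h2 h rfl))
        refine le_trans ?_ (le_neg_fdiv _ hh)
        rw [← e0]
        have := div_le_div_of_nonneg_left hq he (show (e : ℚ) ≤ h by exact_mod_cast h2 h rfl)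
        rw [neg_div, neg_div] at this
        linarith

theorem rng_sound {r : Row} {D : Dom} {d : ℤ} (h : Mem r D d) (w : ℤ) :
    ((rng r w D).1 : ℚ) ≤ (scale : ℚ) * w / d ∧ (scale : ℚ) * w / d ≤ ((rng r w D).2 : ℚ) := by
  have hl := lift_le h
  obtain ⟨h2, -, hs, -, hh⟩ := h
  rcases lt_or_ge d 0 with hd | hd
  · rw [decide_eq_true hd] at hl
    have key := rng1_sound (-w) (lt_of_lt_of_le (by norm_num) (two_le_lift r true D.lo)) hl hh
    have e : (scale : ℚ) * ((-w : ℤ) : ℚ) / ((d.natAbs : ℕ) : ℚ) = (scale : ℚ) * w / d := by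
      rw [show d = -((d.natAbs : ℕ) : ℤ) by omega]
      push_cast
      simp [div_neg, neg_div]
    rw [e] at key
    unfold rng
    rcases hD : D.sgn with _ | b
    · simp only [Int.cast_min, Int.cast_max]
      exact ⟨(min_le_right _ _).trans key.1, key.2.trans (le_max_right _ _)⟩
    · have hb : b = true := (hs b hD).2 hd
      subst hb
      exact key
  · rw [decide_eq_false (not_lt.2 hd)] at hl
    have key := rng1_sound w (lt_of_lt_of_le (by norm_num) (two_le_lift r false D.lo)) hl hh
    have e : ((d.natAbs : ℕ) : ℚ) = (d : ℚ) := by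
      rw [← Int.cast_natCast, show ((d.natAbs : ℕ) : ℤ) = d by omega]
    rw [e] at key
    unfold rng
    rcases hD : D.sgn with _ | b
    · simp only [Int.cast_min, Int.cast_max]
      exact ⟨(min_le_left _ _).trans key.1, key.2.trans (le_max_left _ _)⟩
    · have hb : b = false := by
        cases b
        · rfl
        · exact absurd ((hs true hD).1 rfl) (not_lt.2 hd)
      subst hb
      exact key

theorem lin_sound {r : Row} {D : Dom} {d : ℤ} (h : Mem r D d) (k : ℤ) :
    (∀ l, (lin r k D).1 = some l → l ≤ k * d) ∧ (∀ u, (lin r k D).2 = some u → k * d ≤ u) := by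
  have hl := lift_le h
  obtain ⟨h2, -, hs, -, hh⟩ := h
  unfold lin
  by_cases hk : k = 0
  · simp [hk]
  rw [if_neg hk]
  rcases hD : D.sgn with _ | b
  · simp
  have hb : b = decide (d < 0) := by
    rcases lt_or_ge d 0 with hd | hd
    · rw [decide_eq_true hd]; exact (hs b hD).2 hd
    · rw [decide_eq_false (not_lt.2 hd)]
      cases b
      · rfl
      · exact absurd ((hs true hD).1 rfl) (not_lt.2 hd)
  simp only
  set u := if b then -k else k with hu
  have hkd : k * d = u * (d.natAbs : ℤ) := by
    rcases lt_or_ge d 0 with hd | hd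
    · rw [hu, hb, decide_eq_true hd, if_pos rfl, show (d.natAbs : ℤ) = -d by omega]; ring
    · rw [hu, hb, decide_eq_false (not_lt.2 hd), if_neg Bool.false_ne_true,
        show (d.natAbs : ℤ) = d by omega]
  rw [← hb] at hl
  rw [hkd]
  have h1 : (lift r b D.lo : ℤ) ≤ (d.natAbs : ℤ) := by exact_mod_cast hl
  by_cases h0 : 0 ≤ u
  · rw [if_pos h0]
    refine ⟨fun l e => ?_, fun v e => ?_⟩
    · cases e; exact mul_le_mul_of_nonneg_left h1 h0
    · cases hD' : D.hi with
      | none => simp [hD'] at e
      | some x =>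
        simp [hD'] at e
        subst e
        exact mul_le_mul_of_nonneg_left (by exact_mod_cast hh x hD') h0
  · rw [if_neg h0]
    refine ⟨fun l e => ?_, fun v e => ?_⟩
    · cases hD' : D.hi with
      | none => simp [hD'] at e
      | some x =>
        simp [hD'] at e
        subst e
        exact mul_le_mul_of_nonpos_left (by exact_mod_cast hh x hD') (by omega)
    · cases e; exact mul_le_mul_of_nonpos_left h1 (by omega)

/-- A rational sum over a box. -/
def qsum (f : Row → ℤ) : List (Row × Dom) → List ℤ → ℚ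
  | p :: t, d :: ds => (f p.1 : ℚ) / (d : ℚ) + qsum f t ds
  | _, _ => 0

/-- A linear form over a box. -/
def dsum (f : Row → ℤ) : List (Row × Dom) → List ℤ → ℤ
  | p :: t, d :: ds => f p.1 * d + dsum f t ds
  | _, _ => 0

/-- A point of a box. -/
abbrev In (L : List (Row × Dom)) (ds : List ℤ) : Prop :=
  List.Forall₂ (fun p d => Mem p.1 p.2 d) L ds

/-- A solution. -/
def Sol (L : List (Row × Dom)) (ds : List ℤ) (N : ℕ) : Prop :=
  dsum Row.cx L ds = 0 ∧ dsum Row.ce L ds = -1 ∧
  (N : ℚ) * (1 + qsum Row.wa L ds) = 106496 ∧ (N : ℚ) * (1 + qsum Row.wt L ds) = 32768 ∧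
  960 ∣ N ∧ ∀ d ∈ ds, d.natAbs * d.natAbs ≤ N

theorem rsum_sound (f : Row → ℤ) {L : List (Row × Dom)} {ds : List ℤ} (h : In L ds) :
    ((rsum f L).1 : ℚ) ≤ (scale : ℚ) * qsum f L ds ∧
      (scale : ℚ) * qsum f L ds ≤ ((rsum f L).2 : ℚ) := by
  induction h with
  | nil => simp [rsum, qsum]
  | @cons p d t ds hp _ ih =>
    have hr := rng_sound hp (f p.1)
    simp only [rsum, qsum, Int.cast_add, mul_add, ← mul_div_assoc]
    exact ⟨add_le_add hr.1 ih.1, add_le_add hr.2 ih.2⟩

theorem lsum_sound (f : Row → ℤ) {L : List (Row × Dom)} {ds : List ℤ} (h : In L ds) :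
    (∀ l, (lsum f L).1 = some l → l ≤ dsum f L ds) ∧
      (∀ u, (lsum f L).2 = some u → dsum f L ds ≤ u) := by
  induction h with
  | nil => simp [lsum, dsum]
  | @cons p d t ds hp _ ih =>
    have hr := lin_sound hp (f p.1)
    simp only [lsum, dsum]
    refine ⟨fun l e => ?_, fun u e => ?_⟩
    · rcases h1 : (lin p.1 (f p.1) p.2).1 with _ | a <;> rw [h1] at e <;> simp [oadd] at e
      rcases h2 : (lsum f t).1 with _ | b <;> rw [h2] at e <;> simp at e
      rw [← e]; exact add_le_add (hr.1 a h1) (ih.1 b h2)
    · rcases h1 : (lin p.1 (f p.1) p.2).2 with _ | a <;> rw [h1] at e <;> simp [oadd] at e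
      rcases h2 : (lsum f t).2 with _ | b <;> rw [h2] at e <;> simp at e
      rw [← e]; exact add_le_add (hr.2 a h1) (ih.2 b h2)

theorem qsum_lin (L : List (Row × Dom)) (ds : List ℤ) :
    qsum (fun r => 8 * r.wa - 26 * r.wt) L ds = 8 * qsum Row.wa L ds - 26 * qsum Row.wt L ds := by
  induction L generalizing ds with
  | nil => simp [qsum]
  | cons p t ih =>
    cases ds with
    | nil => simp [qsum]
    | cons d ds => simp only [qsum, ih]; push_cast; ring

theorem excl_false {p : Option ℤ × Option ℤ} {v : ℤ} (h1 : ∀ l, p.1 = some l → l ≤ v)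
    (h2 : ∀ u, p.2 = some u → v ≤ u) : excl p v = false := by
  obtain ⟨a, b⟩ := p
  cases a <;> cases b <;> simp_all [excl]

theorem Sol.pos {L : List (Row × Dom)} {ds : List ℤ} {N : ℕ} (S : Sol L ds N) : 0 < N := by
  rcases Nat.eq_zero_or_pos N with h | h
  · have := S.2.2.2.1
    rw [h] at this
    norm_num at this
  · exact h

theorem prune_false {L : List (Row × Dom)} {ds : List ℤ} {N : ℕ} (h : In L ds) (S : Sol L ds N) :
    prune L = false := by
  have hN : (0 : ℚ) < N := by exact_mod_cast S.pos
  obtain ⟨hx, he, ha, ht, -, -⟩ := S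
  have hs : (0 : ℚ) < (scale : ℚ) := by norm_num [scale]
  have qa : 0 < 1 + qsum Row.wa L ds := by
    by_contra hc; push Not at hc; nlinarith
  have qt : 0 < 1 + qsum Row.wt L ds := by
    by_contra hc; push Not at hc; nlinarith
  have heq : 8 * (1 + qsum Row.wa L ds) = 26 * (1 + qsum Row.wt L ds) := by
    refine mul_left_cancel₀ hN.ne' ?_
    linear_combination 8 * ha - 26 * ht
  have ra := rsum_sound Row.wa h
  have rt := rsum_sound Row.wt h
  have rd := rsum_sound (fun r => 8 * r.wa - 26 * r.wt) h
  rw [qsum_lin] at rd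
  have hlx := lsum_sound Row.cx h
  have hle := lsum_sound Row.ce h
  rw [hx] at hlx
  rw [he] at hle
  simp only [prune, Bool.or_eq_false_iff, decide_eq_false_iff_not, excl_false hlx.1 hlx.2,
    excl_false hle.1 hle.2, and_true]
  refine ⟨⟨⟨⟨?_, ?_⟩, ?_⟩, ?_⟩, ?_⟩
  · rw [List.any_eq_false]
    intro p hp
    clear ra rt rd hlx hle ha ht hx he heq qa qt
    induction h with
    | nil => simp at hp
    | @cons q d t ds hq _ ih =>
      rcases List.mem_cons.1 hp with rfl | hp'
      · have hl := lift_le hq
        obtain ⟨-, -, hs', -, hh⟩ := hq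
        unfold empty
        rcases hD : p.2.sgn with _ | b <;> rcases hH : p.2.hi with _ | x <;> simp
        · intro hx'
          have := hh x hH
          rcases lt_or_ge d 0 with hd | hd
          · rw [decide_eq_true hd] at hl; omega
          · rw [decide_eq_false (not_lt.2 hd)] at hl; omega
        · have := hh x hH
          have hb : b = decide (d < 0) := by
            rcases lt_or_ge d 0 with hd | hd
            · rw [decide_eq_true hd]; exact (hs' b hD).2 hd
            · rw [decide_eq_false (not_lt.2 hd)]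
              cases b
              · rfl
              · exact absurd ((hs' true hD).1 rfl) (not_lt.2 hd)
          rw [hb]; omega
      · exact ih hp'
  · intro hc
    have : ((scale + (rsum Row.wa L).2 : ℤ) : ℚ) ≤ 0 := by exact_mod_cast hc
    push_cast at this; nlinarith [ra.2]
  · intro hc
    have : ((scale + (rsum Row.wt L).2 : ℤ) : ℚ) ≤ 0 := by exact_mod_cast hc
    push_cast at this; nlinarith [rt.2]
  · intro hc
    have : (0 : ℚ) < (((8 - 26) * scale + (rsum (fun r => 8 * r.wa - 26 * r.wt) L).1 : ℤ) : ℚ) := by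
      exact_mod_cast hc
    push_cast at this; nlinarith [rd.1]
  · intro hc
    have : (((8 - 26) * scale + (rsum (fun r => 8 * r.wa - 26 * r.wt) L).2 : ℤ) : ℚ) < 0 := by
      exact_mod_cast hc
    push_cast at this; nlinarith [rd.2]

theorem val_sound {p : Row × Dom} {d v : ℤ} (h : Mem p.1 p.2 d) (hv : val p = some v) : d = v := by
  have hl := lift_le h
  have hr := res_eq h
  obtain ⟨-, -, hs, -, hh⟩ := h
  unfold val at hv
  rcases hD : p.2.sgn with _ | b <;> rcases hH : p.2.hi with _ | x <;> simp [hD, hH] at hv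
  obtain ⟨hlt, rfl⟩ := hv
  have := hh x hH
  have hmod : lift p.1 (decide (d < 0)) p.2.lo % 64 = res p.1 (decide (d < 0)) := by
    generalize hq : res p.1 (decide (d < 0)) = q at hr ⊢
    simp only [lift, hq]
    omega
  rcases lt_or_ge d 0 with hd | hd
  · rw [decide_eq_true hd] at hl hr hmod
    rw [(hs b hD).2 hd] at hlt ⊢
    rw [if_pos rfl]; omega
  · rw [decide_eq_false (not_lt.2 hd)] at hl hr hmod
    have hb : b = false := by
      cases b
      · rfl
      · exact absurd ((hs true hD).1 rfl) (not_lt.2 hd)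
    subst hb
    rw [if_neg Bool.false_ne_true]; omega

theorem vals_sound {L : List (Row × Dom)} {ds vs : List ℤ} (h : In L ds)
    (hv : vals L = some vs) : ds = vs := by
  induction h generalizing vs with
  | nil => simpa [vals] using hv
  | @cons p d t ds hp _ ih =>
    unfold vals at hv
    rcases h1 : val p with _ | a <;> rcases h2 : vals t with _ | b <;> simp [h1, h2] at hv
    rw [← hv, val_sound hp h1, ih h2]

theorem frac_sound (f : Row → ℤ) {L : List (Row × Dom)} {ds : List ℤ} (h : In L ds) :
    (frac f L ds).2 ≠ 0 ∧ qsum f L ds * ((frac f L ds).2 : ℚ) = ((frac f L ds).1 : ℚ) ∧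
      ∀ g : Row → ℤ, (frac g L ds).2 = (frac f L ds).2 := by
  induction h with
  | nil => simp [frac, qsum]
  | @cons p d t ds hp _ ih =>
    have hd : d ≠ 0 := fun e => by have := hp.1; simp [e] at this
    refine ⟨by simp only [frac]; exact mul_ne_zero hd ih.1, ?_, fun g => by
      simp only [frac]; rw [ih.2.2 g]⟩
    simp only [frac, qsum]
    push_cast
    rw [add_mul, ← ih.2.1]
    have : (d : ℚ) ≠ 0 := by exact_mod_cast hd
    field_simp

theorem leaf_sound {L : List (Row × Dom)} {ds : List ℤ} {N : ℕ} (h : In L ds) (S : Sol L ds N)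
    (hl : leaf L ds = true) : N = 20160 := by
  have hN0 : (0 : ℚ) < N := by exact_mod_cast S.pos
  obtain ⟨-, -, ha, ht, h960, -⟩ := S
  obtain ⟨a0, aq, aeq⟩ := frac_sound Row.wa h
  obtain ⟨-, tq, -⟩ := frac_sound Row.wt h
  rw [aeq Row.wt] at tq
  simp only [leaf, aeq Row.wt, Bool.or_eq_true, decide_eq_true_eq] at hl
  set P := (frac Row.wa L ds).2
  set A := (frac Row.wa L ds).1 + P with hA
  set T := (frac Row.wt L ds).1 + P with hT
  have hAq : (A : ℚ) = (1 + qsum Row.wa L ds) * P := by rw [hA]; push_cast; rw [← aq]; ring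
  have hTq : (T : ℚ) = (1 + qsum Row.wt L ds) * P := by rw [hT]; push_cast; rw [← tq]; ring
  have hNT : (N : ℤ) * T = 32768 * P := by
    have : (N : ℚ) * (T : ℚ) = 32768 * (P : ℚ) := by rw [hTq]; linear_combination (P : ℚ) * ht
    exact_mod_cast this
  have h8 : 8 * A = 26 * T := by
    have : (N : ℚ) * (8 * (A : ℚ)) = (N : ℚ) * (26 * (T : ℚ)) := by
      rw [hAq, hTq]; linear_combination 8 * (P : ℚ) * ha - 26 * (P : ℚ) * ht
    have := mul_left_cancel₀ hN0.ne' this
    exact_mod_cast this
  have hT0 : T ≠ 0 := fun e => by rw [e, mul_zero] at hNT; omega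
  have hdiv : 32768 * P / T = (N : ℤ) := by rw [← hNT, Int.mul_ediv_cancel _ hT0]
  rcases hl with ((hl | hl) | hl) | hl
  · exact absurd h8 hl
  · exact absurd (by rw [← hNT]; exact Int.mul_emod_left _ _) hl
  · rw [hdiv] at hl
    exact absurd (Int.emod_eq_zero_of_dvd (by exact_mod_cast h960)) hl
  · rw [hdiv] at hl; exact_mod_cast hl

theorem bound_sound {L : List (Row × Dom)} {ds : List ℤ} {N D : ℕ} (h : In L ds) (S : Sol L ds N)
    (hb : bound L = some D) : N < (D + 1) * (D + 1) := by
  simp only [bound] at hb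
  split_ifs at hb with h1 h2
  simp only [Option.some.injEq] at hb
  subst hb
  refine lt_of_le_of_lt ?_ h2
  have rt := rsum_sound Row.wt h
  have key : (N : ℤ) * (scale + (rsum Row.wt L).1) ≤ 32768 * scale := by
    have : (N : ℚ) * ((scale : ℚ) + ((rsum Row.wt L).1 : ℚ)) ≤ 32768 * (scale : ℚ) := by
      calc (N : ℚ) * ((scale : ℚ) + ((rsum Row.wt L).1 : ℚ))
          ≤ (N : ℚ) * ((scale : ℚ) + (scale : ℚ) * qsum Row.wt L ds) :=
            mul_le_mul_of_nonneg_left (by linarith [rt.1]) (Nat.cast_nonneg N)
        _ = (scale : ℚ) * ((N : ℚ) * (1 + qsum Row.wt L ds)) := by ring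
        _ = 32768 * (scale : ℚ) := by rw [S.2.2.2.1]; ring
    exact_mod_cast this
  have := Int.le_ediv_of_mul_le h1 key
  omega

theorem clip_sound {L : List (Row × Dom)} {ds : List ℤ} {D : ℕ} (h : In L ds)
    (hd : ∀ d ∈ ds, d.natAbs ≤ D) : In (L.map (clipTo D)) ds := by
  induction h with
  | nil => simp [In]
  | @cons p d t ds hp _ ih =>
    refine List.Forall₂.cons ?_ (ih fun x hx => hd x (List.mem_cons_of_mem _ hx))
    refine ⟨hp.1, hp.2.1, hp.2.2.1, hp.2.2.2.1, fun x hx => ?_⟩
    simp only [clipTo, Option.some.injEq] at hx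
    subst hx
    have hd' := hd d List.mem_cons_self
    rcases hH : p.2.hi with _ | y
    · simpa using hd'
    · simpa using ⟨hp.2.2.2.2 y hH, hd'⟩

theorem parts_sound {p : Row × Dom} {d : ℤ} (h : Mem p.1 p.2 d) :
    ∃ q ∈ parts p, q.1 = p.1 ∧ Mem q.1 q.2 d := by
  have hl := lift_le h
  have hr := res_eq h
  obtain ⟨h2, hc, hs, hlo, hh⟩ := h
  unfold parts
  rcases hD : p.2.sgn with _ | b
  · rcases lt_or_ge d 0 with hd | hd
    · exact ⟨(p.1, { p.2 with sgn := some true }), by simp, rfl, h2, hc,
        fun b hb => by simp only [Option.some.injEq] at hb; subst hb; simpa using hd, hlo, hh⟩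
    · exact ⟨(p.1, { p.2 with sgn := some false }), by simp, rfl, h2, hc,
        fun b hb => by simp only [Option.some.injEq] at hb; subst hb; simpa using hd, hlo, hh⟩
  have hb : b = decide (d < 0) := by
    rcases lt_or_ge d 0 with hd | hd
    · rw [decide_eq_true hd]; exact (hs b hD).2 hd
    · rw [decide_eq_false (not_lt.2 hd)]
      cases b
      · rfl
      · exact absurd ((hs true hD).1 rfl) (not_lt.2 hd)
  have hs' : ∀ b', (some b : Option Bool) = some b' → (b' = true ↔ d < 0) := fun b' e =>
    hs b' (hD.trans e)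
  rw [← hb] at hl hr
  simp only
  have hmod : lift p.1 b p.2.lo % 64 = res p.1 b := by
    generalize hq : res p.1 b = q at hr ⊢
    simp only [lift, hq]
    omega
  generalize hl' : lift p.1 b p.2.lo = l at hl hmod ⊢
  rcases hH : p.2.hi with _ | x
  · by_cases he : d.natAbs ≤ l
    · exact ⟨(p.1, ⟨some b, l, some l⟩), by simp, rfl, h2, hc, hs', hl,
        fun y e => by cases e; exact he⟩
    · exact ⟨(p.1, ⟨some b, l + 64, none⟩), by simp, rfl, h2, hc, hs',
        by show l + 64 ≤ _; omega, fun y e => by cases e⟩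
  · simp only
    by_cases he : d.natAbs ≤ l + (x - l) / 128 * 64
    · exact ⟨(p.1, ⟨some b, l, some (l + (x - l) / 128 * 64)⟩), by simp, rfl, h2, hc, hs', hl,
        fun y e => by cases e; exact he⟩
    · exact ⟨(p.1, ⟨some b, l + (x - l) / 128 * 64 + 1, some x⟩), by simp, rfl, h2, hc, hs',
        by show l + (x - l) / 128 * 64 + 1 ≤ _; omega, fun y e => by cases e; exact hh x hH⟩

theorem branch_sound (n : ℕ) {L : List (Row × Dom)} {ds : List ℤ} (h : In L ds) :
    ∃ L' ∈ branch n L, L'.map Prod.fst = L.map Prod.fst ∧ In L' ds := by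
  induction h generalizing n with
  | nil => exact ⟨[], by cases n <;> simp [branch], rfl, List.Forall₂.nil⟩
  | @cons p d t ds hp ht ih =>
    cases n with
    | zero =>
      obtain ⟨q, hq, e, hm⟩ := parts_sound hp
      exact ⟨q :: t, List.mem_map.2 ⟨q, hq, rfl⟩, by simp [e], List.Forall₂.cons hm ht⟩
    | succ n =>
      obtain ⟨L', hL', e, hm⟩ := ih n
      exact ⟨p :: L', List.mem_map.2 ⟨L', hL', rfl⟩, by simp [e], List.Forall₂.cons hp hm⟩

theorem sums_congr (f : Row → ℤ) : ∀ {L L' : List (Row × Dom)} (ds : List ℤ),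
    L'.map Prod.fst = L.map Prod.fst →
    qsum f L' ds = qsum f L ds ∧ dsum f L' ds = dsum f L ds
  | [], [], _, _ => ⟨rfl, rfl⟩
  | [], _ :: _, _, e => by simp at e
  | _ :: _, [], _, e => by simp at e
  | p :: t, q :: t', [], _ => ⟨rfl, rfl⟩
  | p :: t, q :: t', d :: ds, e => by
    simp only [List.map_cons, List.cons.injEq] at e
    obtain ⟨h1, h2⟩ := sums_congr f ds e.2
    simp only [qsum, dsum, h1, h2, e.1, and_self]

theorem Sol.congr {L L' : List (Row × Dom)} {ds : List ℤ} {N : ℕ} (S : Sol L ds N)
    (e : L'.map Prod.fst = L.map Prod.fst) : Sol L' ds N := by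
  obtain ⟨h1, h2, h3, h4, h5⟩ := S
  exact ⟨(sums_congr _ ds e).2.trans h1, (sums_congr _ ds e).2.trans h2,
    by rw [(sums_congr _ ds e).1]; exact h3, by rw [(sums_congr _ ds e).1]; exact h4, h5⟩

theorem search_sound : ∀ (n : ℕ) {L : List (Row × Dom)} {ds : List ℤ} {N : ℕ},
    In L ds → Sol L ds N → search n L = true → N = 20160
  | 0, _, _, _, _, _, h => by simp [search] at h
  | n + 1, L, ds, N, h, S, hs => by
    simp only [search, prune_false h S, Bool.false_or] at hs
    have hbr : ∀ i, (branch i L).all (search n) = true → N = 20160 := fun i hi => by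
      obtain ⟨L', hL', e, hm⟩ := branch_sound i h
      exact search_sound n hm (S.congr e) (List.all_eq_true.1 hi L' hL')
    rcases hv : vals L with _ | vs
    · simp only [hv] at hs
      rcases hb : bound L with _ | D
      · simp only [hb, Option.map_none] at hs
        exact hbr _ hs
      · simp only [hb, Option.map_some] at hs
        split_ifs at hs with he
        · exact hbr _ hs
        · refine search_sound n (clip_sound h fun d hd => ?_) (S.congr ?_) hs
          · have h1 := lt_of_le_of_lt (S.2.2.2.2.2 d hd) (bound_sound h S hb)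
            exact Nat.lt_succ_iff.1 (Nat.mul_self_lt_mul_self_iff.1 h1)
          · rw [List.map_map]
            exact List.map_congr_left fun p _ => rfl
    · simp only [hv] at hs
      have := vals_sound h hv
      subst this
      exact leaf_sound h S hs

theorem start_in : ∀ {R : List Row} {ds : List ℤ},
    List.Forall₂ (fun r d => 2 ≤ Int.natAbs d ∧ d % 64 = (r.c : ℤ)) R ds → In (start R) ds := by
  intro R ds h
  induction h with
  | nil => exact List.Forall₂.nil
  | @cons r d t ds hp _ ih =>
    exact List.Forall₂.cons ⟨hp.1, hp.2, fun b e => by simp at e, hp.1, fun x e => by simp at e⟩ ih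

end CfsgLib.InvChar.LThreeFour.Search
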